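import Groth.Agent.ParaFX.Closed
import Groth.Agent.CohBC.God
import Groth.Agent.FTDescent.FP
import Groth.Agent.Lib.CurveTensor
import Groth.Agent.Lib.CurveDualPrep
import Groth.Agent.Synt29.OmegaStalk
import Groth.Agent.QCoh.Qcqs

/-! Descent of parafactoriality along faithfully flat quasi-compact morphisms. -/

set_option linter.style.haveILetI false
set_option linter.unusedSectionVars false
set_option backward.isDefEq.respectTransparency false
set_option backward.isDefEq.respectTransparency.types false
set_option autoImplicit false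

universe u

open CategoryTheory CategoryTheory.Limits AlgebraicGeometry TopologicalSpace Opposite
open scoped TensorProduct

namespace Groth.Agent.ParaFX.FlatDesc

open Groth.Agent.Synt29 OmegaStalk Groth.Agent.KFlatLib

variable {X X' : Scheme.{u}} (f : X' ⟶ X)

/-- Pullback along a faithfully flat morphism reflects isomorphisms. -/
theorem isIso_of_pullback [Flat f] [Surjective f] {M N : X.Modules} (φ : M ⟶ N)
    [IsIso ((Scheme.Modules.pullback f).map φ)] : IsIso φ := by
  suffices h : ∀ y, Function.Bijective ((DerSch.stalkFunctor X y).map φ) by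
    haveI : Mono φ := (mono_iff_stalk φ).2 fun y => (h y).1
    haveI : Epi φ := (epi_iff_stalk φ).2 fun y => (h y).2
    exact isIso_of_mono_of_epi φ
  intro y
  obtain ⟨x, rfl⟩ := f.surjective y
  let A := X.presheaf.stalk (f x)
  let B := X'.presheaf.stalk x
  letI : Algebra A B := (f.stalkMap x).hom.toAlgebra
  haveI : IsLocalHom (algebraMap A B) := inferInstanceAs (IsLocalHom (f.stalkMap x).hom)
  haveI : Module.Flat A B := Flat.stalkMap f x
  haveI : Module.FaithfullyFlat A B := Module.FaithfullyFlat.of_flat_of_isLocalHom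
  let ψ := (ModuleCat.extendScalars (f.stalkMap x).hom).map ((DerSch.stalkFunctor X (f x)).map φ)
  haveI : IsIso ((DerSch.stalkFunctor X' x).map ((Scheme.Modules.pullback f).map φ)) := inferInstance
  haveI : IsIso ((Scheme.Modules.pullback f ⋙ DerSch.stalkFunctor X' x).map φ) := this
  haveI : IsIso ψ := (NatIso.isIso_map_iff (stalkPullbackIso f x) φ).1 inferInstance
  have hb : Function.Bijective (((DerSch.stalkFunctor X (f x)).map φ).hom.lTensor B) :=
    ConcreteCategory.bijective_of_isIso ψ
  exact (Module.FaithfullyFlat.lTensor_bijective_iff_bijective A B _).1 hb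

theorem finrank_invertible {L : X.Modules} (hL : PicF.IsInvertible L) (x : X) :
    Module.finrank (X.presheaf.stalk x) (L.presheaf.stalk x) = 1 := by
  have h1 : FlatMod.IsFinLocFreeOfRank 1 L := fun y =>
    let ⟨U, hy, ⟨e⟩⟩ := hL y
    ⟨U, hy, ⟨e ≪≫ (coproductUniqueIso (fun _ : Fin 1 => Coh.structureModule (U : Scheme.{u}))).symm⟩⟩
  obtain ⟨b⟩ := Groth.Agent.CurveTensor.exists_basis_stalk h1 x
  rw [Module.finrank_eq_card_basis b, Fintype.card_fin]

theorem isFinLocFree_of_invertible {L : X.Modules} (hL : PicF.IsInvertible L) : FlatMod.IsFinLocFree L :=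
  fun y =>
    let ⟨U, hy, ⟨e⟩⟩ := hL y
    ⟨U, 1, hy, ⟨e ≪≫ (coproductUniqueIso (fun _ : Fin 1 => Coh.structureModule (U : Scheme.{u}))).symm⟩⟩

/-- Invertibility descends along faithfully flat quasi-compact morphisms. -/
theorem isInvertible_of_pullback [Flat f] [Surjective f] [QuasiCompact f] {M : X.Modules} (hM : Coh.IsQCoh M)
    (h : PicF.IsInvertible ((Scheme.Modules.pullback f).obj M)) : PicF.IsInvertible M := by
  have hM' : FlatMod.IsFinLocFree M := FTDescent.isFinLocFree_of_pullback f hM (isFinLocFree_of_invertible h)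
  refine Groth.Agent.CurveDuality.isInvertible_of_rank_one fun y => ?_
  obtain ⟨U, n, hy, ⟨e⟩⟩ := hM' y
  refine ⟨U, hy, ?_⟩
  suffices n = 1 by subst this; exact ⟨e⟩
  obtain ⟨_, ⟨V, hV, rfl⟩, hyV, hle⟩ := X.isBasis_affineOpens.exists_subset_of_mem_open hy U.2
  obtain ⟨l⟩ := QCoh.free_sections hV hle e
  rw [← QCoh.finrank_stalk_of_freeChart hV hM l hyV]
  obtain ⟨x, rfl⟩ := f.surjective y
  have h2 := finrank_invertible h x
  letI : Algebra (X.presheaf.stalk (f x)) (X'.presheaf.stalk x) := (f.stalkMap x).hom.toAlgebra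
  haveI : Module.Free (X.presheaf.stalk (f x)) (St M (f x)) := QCoh.free_stalk_of_isFinLocFree hM' (f x)
  have e3 := ((stalkPullbackIso f x).app M).toLinearEquiv.finrank_eq
  exact ((Module.finrank_baseChange (R := X'.presheaf.stalk x) (S := X.presheaf.stalk (f x))
    (M' := St M (f x))).symm.trans e3.symm).trans h2

theorem good_of_flat {U V P V' : Scheme.{u}} (j : U ⟶ V) [IsOpenImmersion j] [QuasiCompact j]
    (f : V' ⟶ V) [Flat f] [Surjective f] [QuasiCompact f] (j' : P ⟶ V') [IsOpenImmersion j'] (g : P ⟶ U)
    (sq : IsPullback g j' j f) (h : Good j') : Good j := by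
  have hbc : ∀ L₀ : U.Modules, Coh.IsQCoh L₀ →
      Nonempty ((Scheme.Modules.pullback f).obj ((Scheme.Modules.pushforward j).obj L₀) ≅
        (Scheme.Modules.pushforward j').obj ((Scheme.Modules.pullback g).obj L₀)) := fun L₀ hL₀ =>
    haveI := Groth.Agent.CohBC.isIso_bc0 j f g j' sq hL₀
    ⟨asIso (CohBC.bc0 j f j' g sq.w L₀)⟩
  refine ⟨fun L hL => ?_, fun L₀ h₀ => ?_⟩
  · rw [sectBij_iff_isIso_unit]
    let η := (Scheme.Modules.restrictAdjunction j).unit.app L
    suffices IsIso ((Scheme.Modules.pullback f).map η) from isIso_of_pullback f η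
    let A := (Scheme.Modules.pullback f).obj L
    let B := (Scheme.Modules.pullback f).obj ((Scheme.Modules.pushforward j).obj (L.restrict j))
    have hA : IsIso ((Scheme.Modules.restrictAdjunction j').unit.app A) :=
      (sectBij_iff_isIso_unit j' A).1 (h.closed _ (PicClLib.isInvertible_pullback f hL))
    obtain ⟨e⟩ := hbc (L.restrict j) (QCoh.isQCoh_restrict j (QCoh.isQCoh_of_isFinLocFree (isFinLocFree_of_invertible hL)))
    have hB : IsIso ((Scheme.Modules.restrictAdjunction j').unit.app B) :=
      (sectBij_iff_isIso_unit j' B).1 (sectBij_of_iso j' e.symm (sectBij_pushforward j' _))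
    -- the restriction is an isomorphism
    haveI hη : IsIso ((Scheme.Modules.restrictFunctor j).map η) := by
      haveI : IsIso ((Scheme.Modules.restrictAdjunction j).counit.app (L.restrict j)) := inferInstance
      exact IsIso.of_isIso_fac_right ((Scheme.Modules.restrictAdjunction j).left_triangle_components L)
    haveI : IsIso ((Scheme.Modules.pullback j).map η) :=
      (NatIso.isIso_map_iff (Scheme.Modules.restrictFunctorIsoPullback j) η).1 hη
    haveI : IsIso ((Scheme.Modules.pullback j ⋙ Scheme.Modules.pullback g).map η) :=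
      Functor.map_isIso (Scheme.Modules.pullback g) ((Scheme.Modules.pullback j).map η)
    haveI : IsIso ((Scheme.Modules.pullback (g ≫ j)).map η) :=
      (NatIso.isIso_map_iff (Scheme.Modules.pullbackComp g j) η).1 inferInstance
    haveI : IsIso ((Scheme.Modules.pullback (j' ≫ f)).map η) :=
      (NatIso.isIso_map_iff (Scheme.Modules.pullbackCongr sq.w) η).1 inferInstance
    haveI : IsIso ((Scheme.Modules.pullback f ⋙ Scheme.Modules.pullback j').map η) :=
      (NatIso.isIso_map_iff (Scheme.Modules.pullbackComp j' f) η).2 inferInstance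
    haveI hr : IsIso ((Scheme.Modules.restrictFunctor j').map ((Scheme.Modules.pullback f).map η)) :=
      (NatIso.isIso_map_iff (Scheme.Modules.restrictFunctorIsoPullback j') _).2
        (inferInstanceAs (IsIso ((Scheme.Modules.pullback f ⋙ Scheme.Modules.pullback j').map η)))
    have hn := (Scheme.Modules.restrictAdjunction j').unit.naturality ((Scheme.Modules.pullback f).map η)
    haveI : IsIso ((Scheme.Modules.restrictAdjunction j').unit.app
        ((Scheme.Modules.pullback f).obj ((𝟭 V.Modules).obj L))) := hA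
    haveI : IsIso ((Scheme.Modules.restrictAdjunction j').unit.app ((Scheme.Modules.pullback f).obj
        ((Scheme.Modules.restrictFunctor j ⋙ Scheme.Modules.pushforward j).obj L))) := hB
    haveI : IsIso ((𝟭 V'.Modules).map ((Scheme.Modules.pullback f).map η) ≫
        (Scheme.Modules.restrictAdjunction j').unit.app ((Scheme.Modules.pullback f).obj
        ((Scheme.Modules.restrictFunctor j ⋙ Scheme.Modules.pushforward j).obj L))) := by
      rw [hn]
      exact IsIso.comp_isIso' hA (Functor.map_isIso (Scheme.Modules.pushforward j')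
        ((Scheme.Modules.restrictFunctor j').map ((Scheme.Modules.pullback f).map η)))
    haveI : IsIso ((Scheme.Modules.restrictFunctor j' ⋙ Scheme.Modules.pushforward j').map
        ((Scheme.Modules.pullback f).map η)) := Functor.map_isIso (Scheme.Modules.pushforward j') _
    exact IsIso.of_isIso_comp_right ((𝟭 V'.Modules).map ((Scheme.Modules.pullback f).map η))
      ((Scheme.Modules.restrictAdjunction j').unit.app ((Scheme.Modules.pullback f).obj
        ((Scheme.Modules.restrictFunctor j ⋙ Scheme.Modules.pushforward j).obj L)))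
  · have hq : Coh.IsQCoh L₀ := QCoh.isQCoh_of_isFinLocFree (isFinLocFree_of_invertible h₀)
    obtain ⟨e⟩ := hbc L₀ hq
    exact isInvertible_of_pullback f (QCoh.isQCoh_pushforward j hq)
      (isInvertible_of_iso e.symm (h.push _ (PicClLib.isInvertible_pullback g h₀)))

theorem isParafactorialPair_of_flat [QuasiCompact f] [Flat f] [Surjective f] (Y : Closeds X)
    (hU : QuasiCompact (X.homOfLE (le_top : Y.compl ≤ ⊤)))
    (h : ParaF.IsParafactorialPair X' (ParaF.closedsPreimage f Y)) : ParaF.IsParafactorialPair X Y := by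
  refine isParafactorialPair_of_good Y fun T => ?_
  let j := X.homOfLE (inf_le_left : T ⊓ Y.compl ≤ T)
  haveI : QuasiCompact j :=
    MorphismProperty.of_isPullback (isPullback_opens_inf_le (U := T) (V := Y.compl) le_top le_top).flip hU
  haveI : Flat (f ∣_ T) := MorphismProperty.of_isPullback (isPullback_morphismRestrict f T).flip inferInstance
  haveI : Surjective (f ∣_ T) := MorphismProperty.of_isPullback (isPullback_morphismRestrict f T).flip inferInstance
  haveI : QuasiCompact (f ∣_ T) := MorphismProperty.of_isPullback (isPullback_morphismRestrict f T).flip inferInstance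
  refine good_of_flat j (f ∣_ T) (pullback.snd j (f ∣_ T)) (pullback.fst j (f ∣_ T))
    (IsPullback.of_hasPullback j (f ∣_ T)) ?_
  refine good_of_openImmersion _ h (f ⁻¹ᵁ T).ι _ ?_
  rw [Scheme.Hom.opensRange_pullbackSnd, opensRange_homOfLE_compl]
  show (f ∣_ T) ⁻¹ᵁ T.ι ⁻¹ᵁ Y.compl = (f ⁻¹ᵁ T).ι ⁻¹ᵁ f ⁻¹ᵁ Y.compl
  rw [← Scheme.Hom.comp_preimage, ← Scheme.Hom.comp_preimage, morphismRestrict_ι]

end Groth.Agent.ParaFX.FlatDesc
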