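import Groth.Agent.ParaFX.StalkPair
import Groth.Agent.AmpleVan.LiftFibre
import Groth.Agent.SheafHomX.Main
import Groth.Agent.S0058

/-! An invertible module trivial on all thickenings of a closed fibre is trivial. -/

set_option autoImplicit false
set_option linter.style.haveILetI false
set_option backward.isDefEq.respectTransparency false
set_option backward.isDefEq.respectTransparency.types false

universe u

open CategoryTheory CategoryTheory.Limits AlgebraicGeometry TopologicalSpace Opposite
open scoped TensorProduct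

namespace Groth.Agent.ParaFX.ThickTriv

open Groth.Agent.Synt29 OmegaStalk Groth.Agent.KFlatLib Groth.Agent.AmpleVan

theorem surjective_of_lTensor {A B P : Type u} [CommRing A] [CommRing B] [IsLocalRing A] [IsLocalRing B]
    [Algebra A B] [IsLocalHom (algebraMap A B)] [AddCommGroup P] [Module A P] (f : P →ₗ[A] A)
    (h : Function.Surjective (f.lTensor B)) : Function.Surjective f := by
  rw [← LinearMap.range_eq_top]
  by_contra hne
  have hle : LinearMap.range f ≤ IsLocalRing.maximalIdeal A := IsLocalRing.le_maximalIdeal hne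
  have hm : ∀ z, TensorProduct.rid A B (f.lTensor B z) ∈ IsLocalRing.maximalIdeal B := by
    intro z
    induction z with
    | zero => simp
    | tmul b p =>
      rw [LinearMap.lTensor_tmul, TensorProduct.rid_tmul, Algebra.smul_def]
      exact Ideal.mul_mem_right _ _
        ((IsLocalRing.mem_maximalIdeal _).2 ((IsLocalRing.mem_maximalIdeal _).1 (hle ⟨p, rfl⟩) |> map_nonunit (algebraMap A B) _))
    | add x y hx hy => simpa only [map_add] using Ideal.add_mem _ hx hy
  obtain ⟨z, hz⟩ := h ((1 : B) ⊗ₜ[A] (1 : A))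
  have := hm z
  rw [hz, TensorProduct.rid_tmul, one_smul] at this
  exact (IsLocalRing.maximalIdeal.isMaximal B).ne_top ((Ideal.eq_top_iff_one _).2 this)

/-- A morphism of invertible modules which is epi after pullback is bijective on stalks over the image. -/
theorem bij_of_epi_pullback {X Z : Scheme.{u}} (i : Z ⟶ X) {L : X.Modules} (hL : PicF.IsInvertible L)
    (σ : Coh.structureModule X ⟶ L) [Epi ((Scheme.Modules.pullback i).map σ)] (z : Z) :
    Function.Bijective ((DerSch.stalkFunctor X (i z)).map σ) := by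
  let A := X.presheaf.stalk (i z)
  let B := Z.presheaf.stalk z
  letI : Algebra A B := (i.stalkMap z).hom.toAlgebra
  haveI : IsLocalHom (algebraMap A B) := inferInstanceAs (IsLocalHom (i.stalkMap z).hom)
  let ψ := (ModuleCat.extendScalars (i.stalkMap z).hom).map ((DerSch.stalkFunctor X (i z)).map σ)
  have hψ : Function.Surjective ψ := by
    have hn : (DerSch.stalkFunctor Z z).map ((Scheme.Modules.pullback i).map σ) ≫
        (stalkPullbackIso i z).hom.app L = (stalkPullbackIso i z).hom.app _ ≫ ψ :=
      (stalkPullbackIso i z).hom.naturality σ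
    have h1 : Function.Surjective ((DerSch.stalkFunctor Z z).map ((Scheme.Modules.pullback i).map σ)) :=
      (epi_iff_stalk ((Scheme.Modules.pullback i).map σ)).1 inferInstance z
    intro y
    obtain ⟨y', hy'⟩ := (ConcreteCategory.bijective_of_isIso ((stalkPullbackIso i z).hom.app L)).2 y
    obtain ⟨w, hw⟩ := h1 y'
    refine ⟨(stalkPullbackIso i z).hom.app _ w, ?_⟩
    refine (ConcreteCategory.congr_hom hn w).symm.trans ?_
    exact (congrArg _ hw).trans hy'
  obtain ⟨b⟩ := Groth.Agent.CurveTensor.exists_basis_stalk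
    (Groth.Agent.InvEnd.isFinLocFreeOfRank_one hL) (i z)
  let e : St L (i z) ≃ₗ[A] A := b.equivFun.trans (LinearEquiv.funUnique (Fin 1) A A)
  let f : A →ₗ[A] A := e.toLinearMap ∘ₗ ((DerSch.stalkFunctor X (i z)).map σ).hom ∘ₗ
    (RefX.unitStalk (i z)).toLinearMap
  have hf : Function.Surjective (f.lTensor B) := by
    rw [LinearMap.lTensor_comp, LinearMap.lTensor_comp]
    exact (e.lTensor B).surjective.comp (hψ.comp ((RefX.unitStalk (i z)).lTensor B).surjective)
  have hfs := surjective_of_lTensor f hf
  have hfb : Function.Bijective f := OrzechProperty.bijective_of_surjective_endomorphism f hfs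
  have h2 := (Function.Bijective.of_comp_iff' e.bijective _).1 hfb
  exact (Function.Bijective.of_comp_iff _ (RefX.unitStalk (i z)).bijective).1 h2

theorem trivial_of_thickenings (B : Type u) [CommRing B] [IsNoetherianRing B] [IsLocalRing B] (I : Ideal B)
    (hI : I ≤ IsLocalRing.maximalIdeal B) {Y : Scheme.{u}} (f : Y ⟶ Spec (CommRingCat.of B)) [IsProper f]
    (L : Y.Modules) (hL : PicF.IsInvertible L)
    (hn : ∀ n : ℕ, Nonempty ((Scheme.Modules.pullback
        (pullback.fst f (Spec.map (CommRingCat.ofHom (Ideal.Quotient.mk (I ^ (n + 1))))))).obj L ≅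
      Coh.structureModule (pullback f (Spec.map (CommRingCat.ofHom (Ideal.Quotient.mk (I ^ (n + 1)))))))) :
    Nonempty (L ≅ Coh.structureModule Y) := by
  letI : Y.Over (Spec (CommRingCat.of B)) := ⟨f⟩
  haveI : IsProper (Y ↘ Spec (CommRingCat.of B)) := ‹IsProper f›
  haveI : CompactSpace Y := QuasiCompact.compactSpace_of_compactSpace f
  haveI : IsNoetherianRing (CommRingCat.of B) := inferInstanceAs (IsNoetherianRing B)
  haveI : IsLocallyNoetherian Y := LocallyOfFiniteType.isLocallyNoetherian f
  have hLc := StalkPair.isCoh_of_invertible hL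
  have hOc := StalkPair.isCoh_of_invertible (StalkPair.isInvertible_structureModule Y)
  obtain ⟨c, hc⟩ := S0058.result B I Y L hLc 0
  let sp : ∀ n : ℕ, Spec (CommRingCat.of (B ⧸ I ^ (n + 1))) ⟶ Spec (CommRingCat.of B) :=
    fun n => Spec.map (CommRingCat.ofHom (Ideal.Quotient.mk (I ^ (n + 1))))
  haveI hcl : ∀ n, IsClosedImmersion (sp n) := fun n =>
    IsClosedImmersion.spec_of_surjective _ Ideal.Quotient.mk_surjective
  let i : ∀ n, pullback f (sp n) ⟶ Y := fun n => pullback.fst f (sp n)
  let adj := fun n => Scheme.Modules.pullbackPushforwardAdjunction (i n)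
  -- the generator modulo `I ^ (c + 1)`
  obtain ⟨t⟩ := hn c
  obtain ⟨tO⟩ := PicClLib.nonempty_pullback_structureModule (i c)
  obtain ⟨hzO, hisoO⟩ := unit_desc_iso (A := B) (IsPullback.of_hasPullback f (sp c)) hOc.1
  obtain ⟨hzL, hisoL⟩ := unit_desc_iso (A := B) (IsPullback.of_hasPullback f (sp c)) hLc.1
  haveI := hisoO
  haveI := hisoL
  haveI : Epi ((adj c).unit.app (Coh.structureModule Y)) := by
    rw [← cokernel.π_desc (Formal.smulFamily (I ^ (c + 1)) (Coh.structureModule Y))
      ((adj c).unit.app (Coh.structureModule Y)) hzO]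
    infer_instance
  let φ : Coh.structureModule Y ⟶ Formal.modPow I (c + 1) L :=
    (adj c).unit.app (Coh.structureModule Y) ≫ (Scheme.Modules.pushforward (i c)).map (tO ≪≫ t.symm).hom ≫
      inv (cokernel.desc _ _ hzL)
  haveI : Epi φ := inferInstance
  let τ := (Formal.completion I L).map (homOfLE (Nat.zero_le c)).op
  haveI : Epi (τ : Formal.modPow I (c + 1) L ⟶ Formal.modPow I (0 + 1) L) := by
    haveI := FFun.Gen.epi_modPowπ (I := I) (M := L) (0 + 1)
    exact epi_of_epi_fac (FFun.Gen.completion_map_eq I L (Nat.zero_le c))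
  -- lift it
  have hr := (hc 0 c (Nat.zero_le c) (by omega)).le ⟨SheafHomX.cls φ, rfl⟩
  obtain ⟨z, hz⟩ := hr
  let σ : Coh.structureModule Y ⟶ L := QCoh.homOfTop (Sheaf.H.equiv₀ (Coh.toAb L) isTerminalTop z : Γ(L, ⊤))
  have hσz : SheafHomX.cls σ = z := by
    refine (AddEquiv.symm_apply_eq _).2 ?_
    show (QCoh.homOfTop _).app ⊤ (1 : Γ(Y, ⊤)) = _
    rw [QCoh.homOfTop_app, one_smul]
    exact ConcreteCategory.congr_hom (L.presheaf.map_id _) _
  have hσ : σ ≫ Formal.modPowπ I (0 + 1) L = φ ≫ τ := by
    refine SheafHomX.cls_injective ?_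
    rw [← SheafHomX.map_cls, ← SheafHomX.map_cls, hσz]
    exact hz
  -- it generates along the closed fibre
  obtain ⟨hz0, hiso0⟩ := unit_desc_iso (A := B) (IsPullback.of_hasPullback f (sp 0)) hLc.1
  haveI := hiso0
  haveI : Epi ((Scheme.Modules.pullback (i 0)).map σ) := by
    have hfac : (adj 0).unit.app (Coh.structureModule Y) ≫
        (Scheme.Modules.pushforward (i 0)).map ((Scheme.Modules.pullback (i 0)).map σ) =
          (φ ≫ τ) ≫ cokernel.desc _ _ hz0 := by
      rw [← hσ, Category.assoc]
      exact ((adj 0).unit.naturality σ).symm.trans (congrArg (σ ≫ ·) (cokernel.π_desc _ _ hz0).symm)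
    haveI : Epi ((φ ≫ τ) ≫ cokernel.desc _ _ hz0) := inferInstance
    haveI : Epi ((Scheme.Modules.pushforward (i 0)).map ((Scheme.Modules.pullback (i 0)).map σ)) :=
      epi_of_epi_fac hfac
    haveI := faithful_push (i 0)
    exact (Scheme.Modules.pushforward (i 0)).epi_of_epi_map inferInstance
  let G : Y.Opens := ⟨_, StalkIso.isOpen_bij hOc hLc σ⟩
  have hG : ∀ y : Y, y ∈ G := by
    intro y
    obtain ⟨m, hm, hmc⟩ := (isClosed_closure (s := ({y} : Set Y))).exists_closed_singleton
      ⟨y, subset_closure rfl⟩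
    refine (specializes_iff_mem_closure.2 hm).mem_open G.2 ?_
    have hfm : IsClosed ({f m} : Set (Spec (CommRingCat.of B))) := by
      rw [← Set.image_singleton]
      exact f.isClosedMap _ hmc
    have hfm' : f m = IsLocalRing.closedPoint B := by
      have := (IsLocalRing.specializes_closedPoint (f m)).mem_closed hfm rfl
      exact (show IsLocalRing.closedPoint B = f m from this).symm
    have hr0 : m ∈ Set.range (i 0) := by
      rw [Scheme.Pullback.range_fst]
      show f m ∈ Set.range (sp 0)
      rw [hfm']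
      show IsLocalRing.closedPoint B ∈ Set.range (PrimeSpectrum.comap (Ideal.Quotient.mk (I ^ (0 + 1))))
      rw [range_comap_of_surjective _ _ Ideal.Quotient.mk_surjective, Ideal.mk_ker]
      exact (PrimeSpectrum.mem_zeroLocus _ _).2 (by rw [pow_one]; exact hI)
    obtain ⟨w, rfl⟩ := hr0
    exact bij_of_epi_pullback (i 0) hL σ w
  haveI := StalkIso.isIso_of_bij σ hG
  exact ⟨(asIso σ).symm⟩

end Groth.Agent.ParaFX.ThickTriv
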