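import Groth.Agent.ParaFX.PairStalk

/-! A pair is parafactorial iff the local rings along the closed subset are. -/

set_option autoImplicit false
set_option linter.style.haveILetI false
set_option linter.unusedSectionVars false
set_option backward.isDefEq.respectTransparency false
set_option backward.isDefEq.respectTransparency.types false

universe u

open CategoryTheory CategoryTheory.Limits AlgebraicGeometry TopologicalSpace Opposite

namespace Groth.Agent.ParaFX.PairIff

open Groth.Agent.ParaFX.StalkPair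

/-- Parafactoriality is invariant under isomorphisms. -/
theorem of_ringEquiv {A B : Type u} [CommRing A] [CommRing B] [IsLocalRing A] [IsLocalRing B] (e : A ≃+* B)
    (hB : ParaF.IsParafactorialLocalRing B) : ParaF.IsParafactorialLocalRing A := by
  haveI : IsIso (CommRingCat.ofHom e.toRingHom) := e.toCommRingCatIso.isIso_hom
  haveI : IsIso (CommRingCat.ofHom e.symm.toRingHom) := e.symm.toCommRingCatIso.isIso_hom
  refine isParafactorialPair_of_good _ fun T => ?_
  refine good_of_openImmersion _ hB (T.ι ≫ Spec.map (CommRingCat.ofHom e.symm.toRingHom)) _ ?_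
  rw [opensRange_homOfLE_compl, Scheme.Hom.comp_preimage]
  congr 1
  have key : ∀ q : PrimeSpectrum A, q = IsLocalRing.closedPoint A ↔
      PrimeSpectrum.comap e.symm.toRingHom q = IsLocalRing.closedPoint B := by
    intro q
    haveI : IsLocalHom e.symm.toRingHom := ⟨fun a ha => (MulEquiv.isUnit_map e.symm).1 ha⟩
    have hc : PrimeSpectrum.comap e.symm.toRingHom (IsLocalRing.closedPoint A) = IsLocalRing.closedPoint B :=
      IsLocalRing.comap_closedPoint _
    exact ⟨fun h => h ▸ hc, fun h => PrimeSpectrum.comap_injective_of_surjective e.symm.toRingHom e.symm.surjective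
      (h.trans hc.symm)⟩
  ext q
  exact not_congr (key q)

variable {U X : Scheme.{u}}

/-- Direct images of invertible modules are invertible when the stalks off the range are parafactorial. -/
theorem pushforward_invertible [IsLocallyNoetherian X] (j : U ⟶ X) [IsOpenImmersion j]
    (hpf : ∀ x : X, x ∉ j.opensRange → ParaF.IsParafactorialLocalRing (X.presheaf.stalk x))
    {L : U.Modules} (hL : PicF.IsInvertible L) :
    PicF.IsInvertible ((Scheme.Modules.pushforward j).obj L) := by
  let F := (Scheme.Modules.pushforward j).obj L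
  let G : X.Opens := ⟨{z | ∃ W : X.Opens, z ∈ W ∧ PicF.IsInvertible (F.restrict W.ι)}, by
    exact isOpen_iff_forall_mem_open.2 fun z ⟨W, hz, hW⟩ => ⟨W, fun z' hz' => ⟨W, hz', hW⟩, W.2, hz⟩⟩
  suffices hall : ∀ z, z ∈ G by
    exact isInvertible_of_cover (fun i : X => (hall i).choose) (fun x => ⟨x, (hall x).choose_spec.1⟩)
      fun i => (hall i).choose_spec.2
  by_contra hne
  push Not at hne
  obtain ⟨z₀, hz₀⟩ := hne
  let Bad : Set X := (G : Set X)ᶜ
  obtain ⟨C, hC, hzC⟩ : ∃ C ∈ irreducibleComponents ↥Bad, (⟨z₀, hz₀⟩ : Bad) ∈ C :=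
    ⟨_, irreducibleComponent_mem_irreducibleComponents _, mem_irreducibleComponent⟩
  haveI : QuasiSober ↥Bad := (Topology.IsClosedEmbedding.subtypeVal G.2.isClosed_compl).quasiSober
  obtain ⟨η, hη⟩ := QuasiSober.sober hC.1 (isClosed_of_mem_irreducibleComponents C hC)
  let y : X := η.1
  have hgen : ∀ z : X, z ⤳ y → z ≠ y → z ∈ G := by
    intro z hz hne'
    by_contra hzG
    have hz' : (⟨z, hzG⟩ : Bad) ⤳ η := Topology.IsInducing.subtypeVal.specializes_iff.1 hz
    have hsub : C ⊆ closure {(⟨z, hzG⟩ : Bad)} := by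
      rw [← hη.def]
      exact closure_minimal (Set.singleton_subset_iff.2 (specializes_iff_mem_closure.1 hz')) isClosed_closure
    have := hC.2 isIrreducible_singleton.closure hsub
    have h2 : η ⤳ (⟨z, hzG⟩ : Bad) := hη.specializes (this (subset_closure rfl))
    exact hne' ((hz'.map continuous_subtype_val).antisymm (h2.map continuous_subtype_val)).eq
  have hy : y ∉ j.opensRange := by
    intro hy
    refine η.2 ⟨j.opensRange, hy, ?_⟩
    let i := j.isoOpensRange
    have hi : i.inv ≫ j = j.opensRange.ι := by rw [Iso.inv_comp_eq, Scheme.Hom.isoOpensRange_hom_ι]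
    exact isInvertible_of_iso (restrictTwice F i.inv j ≪≫ (Scheme.Modules.restrictFunctorCongr hi).app F)
      (isInvertible_restrict i.inv (isInvertible_of_iso (restrictPushforward j L).symm hL))
  obtain ⟨T, hT, hyT, -⟩ := exists_isAffineOpen_mem_and_subset (x := y) (U := ⊤) trivial
  haveI : IsAffine (T : Scheme.{u}) := hT
  let jT := j ∣_ T
  have hrT : jT.opensRange = T.ι ⁻¹ᵁ j.opensRange := opensRange_restrict j T
  have hpfT : ∀ x : (T : Scheme.{u}), x ∉ jT.opensRange →
      ParaF.IsParafactorialLocalRing ((T : Scheme.{u}).presheaf.stalk x) := by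
    intro x hx
    rw [hrT] at hx
    exact of_ringEquiv ((T.stalkIso x).commRingCatIsoToRingEquiv) (hpf x.1 hx)
  let L' := (F.restrict T.ι).restrict jT
  have hL' : PicF.IsInvertible L' :=
    isInvertible_of_iso ((restrictTwice F (j ⁻¹ᵁ T).ι j) ≪≫
        (Scheme.Modules.restrictFunctorCongr (morphismRestrict_ι j T).symm).app F ≪≫ (restrictTwice F jT T.ι).symm)
      (isInvertible_restrict (j ⁻¹ᵁ T).ι (isInvertible_of_iso (restrictPushforward j L).symm hL))
  let eT : F.restrict T.ι ≅ (Scheme.Modules.pushforward jT).obj L' :=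
    isoPushforward jT (sectBij_restrict j T.ι jT hrT (sectBij_pushforward j L))
  have hGT : PicF.IsInvertible ((Scheme.Modules.pullback (T.ι ⁻¹ᵁ G).ι).obj
      ((Scheme.Modules.pushforward jT).obj L')) := by
    refine isInvertible_of_iso ((Scheme.Modules.restrictFunctorIsoPullback _).app _) ?_
    refine isInvertible_of_iso ((Scheme.Modules.restrictFunctor (T.ι ⁻¹ᵁ G).ι).mapIso eT) ?_
    refine isInvertible_of_cover (fun i : (T.ι ⁻¹ᵁ G : (T : Scheme.{u}).Opens) =>
      (T.ι ⁻¹ᵁ G).ι ⁻¹ᵁ T.ι ⁻¹ᵁ i.2.choose) (fun x => ⟨x, x.2.choose_spec.1⟩) fun i => ?_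
    obtain ⟨hz, hW⟩ := i.2.choose_spec
    let W₁ := (T.ι ⁻¹ᵁ G).ι ⁻¹ᵁ T.ι ⁻¹ᵁ i.2.choose
    let b := IsOpenImmersion.lift i.2.choose.ι (W₁.ι ≫ (T.ι ⁻¹ᵁ G).ι ≫ T.ι) (by
      rintro _ ⟨w, rfl⟩
      rw [Scheme.Opens.range_ι]
      exact w.2)
    have hb : b ≫ i.2.choose.ι = W₁.ι ≫ (T.ι ⁻¹ᵁ G).ι ≫ T.ι := IsOpenImmersion.lift_fac _ _ _
    haveI : IsOpenImmersion (b ≫ i.2.choose.ι) := by rw [hb]; infer_instance
    haveI : IsOpenImmersion b := IsOpenImmersion.of_comp b i.2.choose.ι
    exact isInvertible_of_iso (restrictTwice F b i.2.choose.ι ≪≫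
      (Scheme.Modules.restrictFunctorCongr hb).app F ≪≫
      (restrictTwice F W₁.ι ((T.ι ⁻¹ᵁ G).ι ≫ T.ι)).symm ≪≫
      (Scheme.Modules.restrictFunctor W₁.ι).mapIso (restrictTwice F _ T.ι).symm) (isInvertible_restrict b hW)
  obtain ⟨W, hyW, hW⟩ := near jT hpfT hL' (⟨y, hyT⟩ : (T : Scheme.{u}))
    (fun h => hy (by rw [hrT] at h; exact h)) (T.ι ⁻¹ᵁ G) hGT
    (fun z hz hne' => hgen z.1 (hz.map continuous_subtype_val) fun e => hne' (Subtype.ext e))
  refine η.2 ⟨T.ι ''ᵁ W, ⟨⟨y, hyT⟩, hyW, rfl⟩, ?_⟩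
  let b := (T.ι.isoImage W).inv
  have hb : (b ≫ W.ι) ≫ T.ι = (T.ι ''ᵁ W).ι := by simp [b]
  exact isInvertible_of_iso ((Scheme.Modules.restrictFunctor b).mapIso
      ((Scheme.Modules.restrictFunctor W.ι).mapIso eT.symm) ≪≫
    restrictTwice _ b W.ι ≪≫ restrictTwice F (b ≫ W.ι) T.ι ≪≫ (Scheme.Modules.restrictFunctorCongr hb).app F)
    (isInvertible_restrict b hW)

theorem isParafactorialPair_iff_stalks [IsLocallyNoetherian X] (Y : Closeds X) :
    ParaF.IsParafactorialPair X Y ↔ ∀ y : X, y ∈ Y → ParaF.IsParafactorialLocalRing (X.presheaf.stalk y) := by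
  constructor
  · intro h y hy
    obtain ⟨T, hT, hyT, -⟩ := exists_isAffineOpen_mem_and_subset (x := y) (U := ⊤) trivial
    let B := Γ(X, T)
    haveI : IsNoetherianRing B := IsLocallyNoetherian.component_noetherian ⟨T, hT⟩
    let Y' : Closeds (Spec (CommRingCat.of B)) := ParaF.closedsPreimage hT.fromSpec Y
    have h' : ParaF.IsParafactorialPair (Spec (CommRingCat.of B)) Y' :=
      isParafactorialPair_of_good Y' fun S => good_of_openImmersion Y h (S.ι ≫ hT.fromSpec) _ (by
        rw [opensRange_homOfLE_compl, Scheme.Hom.comp_preimage]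
        rfl)
    let p := hT.primeIdealOf ⟨y, hyT⟩
    have hp : (p : Spec (CommRingCat.of B)) ∈ Y' := by
      show hT.fromSpec p ∈ Y
      rw [hT.fromSpec_primeIdealOf]
      exact hy
    have hA := PairStalk.of_pair B Y' h' p hp
    letI := TopCat.Presheaf.algebra_section_stalk X.presheaf ⟨y, hyT⟩
    haveI : IsLocalization.AtPrime (X.presheaf.stalk y) p.asIdeal := hT.isLocalization_stalk ⟨y, hyT⟩
    exact of_ringEquiv (IsLocalization.algEquiv p.asIdeal.primeCompl (X.presheaf.stalk y)
      (Localization.AtPrime p.asIdeal)).toRingEquiv hA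
  · intro h
    refine (isParafactorialPair_iff Y).2 ⟨fun V => ?_, fun V L hL => ?_⟩
    · exact Hartogs.restrict_bijective Y.compl
        (fun x hx => two_le_depth _ (h x (not_not.1 hx))) V
    · refine pushforward_invertible _ (fun x hx => ?_) hL
      rw [opensRange_homOfLE_compl] at hx
      exact of_ringEquiv ((V.stalkIso x).commRingCatIsoToRingEquiv) (h x.1 (not_not.1 hx))

end Groth.Agent.ParaFX.PairIff
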