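import Groth.Agent.ParaFX.StalkPair
import Groth.Agent.KZ.OpenExt
import Groth.Agent.QCoh.SpecFT
import Groth.Agent.S2265

/-! A parafactorial pair has parafactorial local rings along the closed subset. -/

set_option autoImplicit false
set_option linter.style.haveILetI false
set_option linter.unusedSectionVars false
set_option backward.isDefEq.respectTransparency false
set_option backward.isDefEq.respectTransparency.types false

universe u

open CategoryTheory CategoryTheory.Limits AlgebraicGeometry TopologicalSpace Opposite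
open scoped TensorProduct

namespace Groth.Agent.ParaFX.PairStalk

open Groth.Agent.ParaFX.StalkIso Groth.Agent.ParaFX.StalkPair

/-- Finite modules over a localisation come from finite modules. -/
theorem exists_finite_descend (B A : Type u) [CommRing B] [CommRing A] [Algebra B A] (S : Submonoid B)
    [IsLocalization S A] (M : Type u) [AddCommGroup M] [Module A M] [Module.Finite A M] :
    ∃ (N : Type u) (_ : AddCommGroup N) (_ : Module B N), Module.Finite B N ∧
      Nonempty (A ⊗[B] N ≃ₗ[A] M) := by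
  classical
  letI : Module B M := Module.compHom M (algebraMap B A)
  haveI : IsScalarTower B A M := .of_algebraMap_smul fun _ _ => rfl
  obtain ⟨s, hs⟩ := Module.Finite.fg_top (R := A) (M := M)
  let N : Submodule B M := Submodule.span B (s : Set M)
  haveI : IsLocalizedModule S N.subtype := by
    refine ⟨fun t => ?_, fun m => ?_, fun {a b} hab => ⟨1, by rw [one_smul, one_smul]; exact Subtype.ext hab⟩⟩
    · rw [Module.End.isUnit_iff]
      have hu := IsLocalization.map_units A t
      have e : ((algebraMap B (Module.End B M) t : Module.End B M) : M → M) = fun m => algebraMap B A t • m :=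
        funext fun m => (algebraMap_smul A (t : B) m).symm
      rw [e]
      exact (MulAction.bijective hu.unit : Function.Bijective fun m : M => hu.unit • m)
    · have hm : m ∈ Submodule.span A (s : Set M) := by rw [hs]; trivial
      induction hm using Submodule.span_induction with
      | mem x hx => exact ⟨(⟨x, Submodule.subset_span hx⟩, 1), one_smul _ _⟩
      | zero => exact ⟨(0, 1), smul_zero _⟩
      | add x y _ _ hx hy =>
        obtain ⟨⟨a, t⟩, ha⟩ := hx
        obtain ⟨⟨b, t'⟩, hb⟩ := hy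
        refine ⟨((t' : B) • a + (t : B) • b, t * t'), ?_⟩
        simp only [map_add, map_smul, ← ha, ← hb, Submonoid.smul_def, Submonoid.coe_mul, smul_add, smul_smul]
        rw [mul_comm (t' : B)]
      | smul r x _ hx =>
        obtain ⟨⟨a, t⟩, ha⟩ := hx
        obtain ⟨⟨b, t'⟩, hb⟩ := IsLocalization.surj S r
        refine ⟨(b • a, t' * t), ?_⟩
        simp only [map_smul, ← ha, Submonoid.smul_def, Submonoid.coe_mul]
        rw [← algebraMap_smul A ((t' : B) * t), smul_smul, ← algebraMap_smul A b, ← algebraMap_smul A (t : B) x,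
          smul_smul, ← hb, map_mul]
        congr 1
        ring
  refine ⟨N, inferInstance, inferInstance, Module.Finite.iff_fg.2 ⟨s, rfl⟩, ⟨?_⟩⟩
  exact (IsLocalizedModule.isBaseChange S A N.subtype).equiv

theorem bij_stalkMap {X' X : Scheme.{u}} (g : X' ⟶ X) [Flat g] [IsPreimmersion g] (w : X') :
    Function.Bijective (g.stalkMap w) := by
  refine ⟨?_, g.stalkMap_surjective w⟩
  letI := (g.stalkMap w).hom.toAlgebra
  haveI : IsLocalHom (algebraMap (X.presheaf.stalk (g w)) (X'.presheaf.stalk w)) :=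
    inferInstanceAs (IsLocalHom (g.stalkMap w).hom)
  haveI : Module.Flat (X.presheaf.stalk (g w)) (X'.presheaf.stalk w) := Flat.stalkMap g w
  haveI : Module.FaithfullyFlat (X.presheaf.stalk (g w)) (X'.presheaf.stalk w) :=
    Module.FaithfullyFlat.of_flat_of_isLocalHom
  exact (faithfulSMul_iff_algebraMap_injective _ _).1 inferInstance

/-- The localisation of a parafactorial pair at a prime of the closed subset. -/
theorem of_pair (B : Type u) [CommRing B] [IsNoetherianRing B] (Y : Closeds (Spec (CommRingCat.of B)))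
    (h : ParaF.IsParafactorialPair (Spec (CommRingCat.of B)) Y) (p : PrimeSpectrum B) (hp : (p : Spec (CommRingCat.of B)) ∈ Y) :
    ParaF.IsParafactorialLocalRing (Localization.AtPrime p.asIdeal) := by
  let X := Spec (CommRingCat.of B)
  let Y₀ : Closeds X := Closeds.closure {p}
  have hle : Y₀ ≤ Y := (closure_minimal (Set.singleton_subset_iff.2 hp) Y.isClosed : closure _ ⊆ _)
  have h₀ : ParaF.IsParafactorialPair X Y₀ := isParafactorialPair_mono Y hle h
  let A := Localization.AtPrime p.asIdeal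
  let f : Spec (CommRingCat.of A) ⟶ X := Spec.map (CommRingCat.ofHom (algebraMap B A))
  haveI : Flat f := Flat.SpecMap_iff.2 (RingHom.flat_algebraMap_iff.2 (IsLocalization.flat A p.asIdeal.primeCompl))
  haveI : IsPreimmersion f := IsPreimmersion.of_isLocalization p.asIdeal.primeCompl
  haveI : IsNoetherianRing A := IsLocalization.isNoetherianRing p.asIdeal.primeCompl A inferInstance
  haveI : IsNoetherianRing (CommRingCat.of A) := inferInstanceAs (IsNoetherianRing A)
  haveI : IsNoetherianRing (CommRingCat.of B) := inferInstanceAs (IsNoetherianRing B)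
  have hfc : f (IsLocalRing.closedPoint A) = p :=
    PrimeSpectrum.ext (IsLocalization.AtPrime.comap_maximalIdeal A p.asIdeal)
  have hfgen : ∀ q, f q ⤳ p := fun q => by
    have := (IsLocalRing.specializes_closedPoint q).map f.continuous
    rwa [hfc] at this
  let P := FEt.puncturedSpec A
  let U : X.Opens := Y₀.compl
  have hmemU : ∀ q, f q ∈ U ↔ q ≠ IsLocalRing.closedPoint A := by
    intro q
    constructor
    · intro hq e
      subst e
      rw [hfc] at hq
      exact hq (subset_closure (Set.mem_singleton _))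
    · intro hq hq'
      have h1 : p ⤳ f q := specializes_iff_mem_closure.2 hq'
      exact hq (f.isEmbedding.injective ((h1.antisymm (hfgen q)).eq.symm.trans hfc.symm))
  -- functions extend
  have hfn : Function.Bijective ((Spec (CommRingCat.of A)).presheaf.map (homOfLE (le_top : P ≤ ⊤)).op) := by
    have hgd : Good U.ι := good_of_openImmersion Y₀ h₀ (𝟙 X) U.ι (by
      rw [Scheme.Opens.opensRange_ι]; rfl)
    have hO := hgd.closed _ (isInvertible_structureModule X)
    let L₁ := (Coh.structureModule X).restrict U.ι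
    have hL₁ : Coh.IsQCoh L₁ := QCoh.isQCoh_restrict U.ι QCoh.isQCoh_structureModule
    have sq := IsPullback.of_hasPullback U.ι f
    haveI : QuasiCompact U.ι := inferInstance
    haveI := CohBC.isIso_bc0 U.ι f (pullback.fst U.ι f) (pullback.snd U.ι f) sq hL₁
    obtain ⟨tO⟩ := PicClLib.nonempty_pullback_structureModule f
    let e := ((Scheme.Modules.pullback f).mapIso (isoPushforward U.ι hO) ≪≫
      asIso (_root_.CohBC.bc0 U.ι f (pullback.snd U.ι f) (pullback.fst U.ι f) sq.w L₁)).symm ≪≫ tO
    have hs : SectBij P.ι (Coh.structureModule (Spec (CommRingCat.of A))) :=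
      sectBij_of_le (pullback.snd U.ι f) P.ι (by
        rw [Scheme.Hom.opensRange_pullbackSnd, Scheme.Opens.opensRange_ι, Scheme.Opens.opensRange_ι]
        exact fun q hq => (hmemU q).1 hq)
        (sectBij_of_iso _ e (sectBij_pushforward _ _))
    have := hs ⊤ P le_top (by rw [Scheme.Opens.opensRange_ι, top_inf_eq])
    rw [ConcreteCategory.isIso_iff_bijective] at this
    exact this
  refine (isParafactorialLocalRing_iff A).2 ⟨hfn, fun L₀ hL₀ => ?_⟩
  -- a coherent extension to the local scheme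
  haveI : IsNoetherian (Spec (CommRingCat.of A)) := inferInstance
  have hL₀c := isCoh_of_invertible hL₀
  obtain ⟨E, hEq, hEft, ⟨eE⟩⟩ := QCoh.exists_extension_abs (KZ.extStep P) L₀ hL₀c.1 hL₀c.2
  let M := (moduleSpecΓFunctor (R := CommRingCat.of A)).obj E
  have hEfp : CohB1.IsFP E := QCoh.isCoh_iff_isFP.1 ⟨hEq, hEft⟩
  haveI : Module.FinitePresentation A M := (QCoh.isFP_iff_finitePresentation E hEq).1 hEfp
  obtain ⟨N, _, _, _, ⟨eN⟩⟩ := exists_finite_descend B A p.asIdeal.primeCompl M
  haveI : Module.FinitePresentation B N := Module.finitePresentation_of_finite B N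
  let F : X.Modules := tilde (ModuleCat.of B N)
  have hFfp : CohB1.IsFP F := (QCoh.isFP_tilde_iff (R := CommRingCat.of B) (ModuleCat.of B N)).2 ‹_›
  have hFq : Coh.IsQCoh F := QCoh.isQCoh_of_isFP hFfp
  obtain ⟨eF⟩ := S2265.result B A N
  haveI := (isQuasicoherent_iff_isIso_fromTildeΓ (R := CommRingCat.of A) E).1 hEq
  let εE := asIso (Scheme.Modules.fromTildeΓ (R := CommRingCat.of A) E)
  let eFE : (Scheme.Modules.pullback f).obj F ≅ E :=
    eF ≪≫ (tilde.functor (CommRingCat.of A)).mapIso (eN.toModuleIso) ≪≫ εE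
  -- the good open of `F`
  let G : X.Opens := ⟨{z | ∃ W : X.Opens, z ∈ W ∧ PicF.IsInvertible (F.restrict W.ι)}, by
    refine isOpen_iff_forall_mem_open.2 fun z ⟨W, hz, hW⟩ => ⟨W, fun z' hz' => ⟨W, hz', hW⟩, W.2, hz⟩⟩
  have hG : PicF.IsInvertible (F.restrict G.ι) := by
    refine isInvertible_of_cover (fun i : G => G.ι ⁻¹ᵁ i.2.choose) (fun x => ⟨x, x.2.choose_spec.1⟩) fun i => ?_
    obtain ⟨hz, hW⟩ := i.2.choose_spec
    have hle : i.2.choose ≤ G := fun z' hz' => ⟨_, hz', hW⟩
    let b := IsOpenImmersion.lift i.2.choose.ι ((G.ι ⁻¹ᵁ i.2.choose).ι ≫ G.ι) (by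
      rintro _ ⟨w, rfl⟩
      rw [Scheme.Opens.range_ι]
      exact w.2)
    have hb : b ≫ i.2.choose.ι = (G.ι ⁻¹ᵁ i.2.choose).ι ≫ G.ι := IsOpenImmersion.lift_fac _ _ _
    haveI : IsOpenImmersion (b ≫ i.2.choose.ι) := by rw [hb]; infer_instance
    haveI : IsOpenImmersion b := IsOpenImmersion.of_comp b i.2.choose.ι
    exact isInvertible_of_iso (restrictTwice F b i.2.choose.ι ≪≫
      (Scheme.Modules.restrictFunctorCongr hb).app F ≪≫ (restrictTwice F _ _).symm) (isInvertible_restrict b hW)
  have hPG : ∀ q, q ≠ IsLocalRing.closedPoint A → f q ∈ G := by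
    intro q hq
    obtain ⟨W, hqW, ⟨eW⟩⟩ := hL₀ ⟨q, hq⟩
    let g := W.ι ≫ P.ι ≫ f
    let ε : (Scheme.Modules.pullback g).obj F ≅ Coh.structureModule (W : Scheme.{u}) :=
      ((Scheme.Modules.pullbackComp W.ι (P.ι ≫ f)).app F).symm ≪≫
        (Scheme.Modules.pullback W.ι).mapIso (((Scheme.Modules.pullbackComp P.ι f).app F).symm ≪≫
          (Scheme.Modules.pullback P.ι).mapIso eFE ≪≫
          ((Scheme.Modules.restrictFunctorIsoPullback P.ι).app E).symm ≪≫ eE) ≪≫
        ((Scheme.Modules.restrictFunctorIsoPullback W.ι).app L₀).symm ≪≫ eW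
    obtain ⟨s, hs⟩ := nonempty_linearEquiv_stalk g ⟨⟨q, hq⟩, hqW⟩ (bij_stalkMap g _) ε
    obtain ⟨φ, hφ⟩ := exists_hom_generating (isAffineOpen_top X) hFq _ s hs
    let W' : X.Opens := ⟨_, isOpen_bij (isCoh_of_invertible (isInvertible_structureModule X))
      (QCoh.isCoh_iff_isFP.2 hFfp) φ⟩
    refine ⟨W', hφ, ?_⟩
    haveI : IsIso ((Scheme.Modules.restrictFunctor W'.ι).map φ) := by
      refine (NatIso.isIso_map_iff (Scheme.Modules.restrictFunctorIsoPullback W'.ι) φ).2 ?_
      exact isIso_of_bij _ fun w => (bij_pullback_iff W'.ι φ w).2 w.2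
    exact isInvertible_of_iso (asIso ((Scheme.Modules.restrictFunctor W'.ι).map φ))
      (isInvertible_restrict W'.ι (isInvertible_structureModule X))
  -- shrink around `p`
  let Z : Set X := {z | ∃ c, c ∈ U ∧ c ∉ G ∧ c ⤳ z}
  have hZ : StableUnderSpecialization Z := fun a b hab ⟨c, h1, h2, h3⟩ => ⟨c, h1, h2, h3.trans hab⟩
  have hpC : p ∉ closure ((U : Set X) \ G) := by
    intro hc
    obtain ⟨c, h1, h2, h3⟩ := ZClosLib.closure_diff_subset hZ
      (fun z hz => ⟨z, hz.1, hz.2, specializes_rfl⟩) hc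
    have hcr : c ∈ Set.range f.base := by
      have hd : Disjoint (p.asIdeal.primeCompl : Set B) c.asIdeal := by
        have hle : c.asIdeal ≤ p.asIdeal := (PrimeSpectrum.le_iff_specializes c p).2 h3
        exact Set.disjoint_left.2 fun b hb hb' => hb (hle hb')
      exact ⟨⟨_, IsLocalization.isPrime_of_isPrime_disjoint p.asIdeal.primeCompl A c.asIdeal c.2 hd⟩,
        PrimeSpectrum.ext (IsLocalization.comap_map_of_isPrime_disjoint p.asIdeal.primeCompl A c.2 hd)⟩
    obtain ⟨q, rfl⟩ := hcr
    exact h2 (hPG q ((hmemU q).1 h1))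
  let W : X.Opens := ⟨(closure ((U : Set X) \ G))ᶜ, isClosed_closure.isOpen_compl⟩
  let jW := U.ι ∣_ W
  have hrW : jW.opensRange = W.ι ⁻¹ᵁ U := by
    rw [opensRange_restrict, Scheme.Opens.opensRange_ι]
  have hgood : Good jW := good_of_openImmersion Y₀ h₀ W.ι jW hrW
  have hsub : Set.range (jW ≫ W.ι) ⊆ Set.range G.ι := by
    rintro _ ⟨w, rfl⟩
    rw [Scheme.Opens.range_ι]
    have hwU : (jW ≫ W.ι) w ∈ U := by
      have : jW w ∈ jW.opensRange := ⟨w, rfl⟩
      rw [hrW] at this
      exact this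
    exact by_contra fun hn => (jW w).2 (subset_closure ⟨hwU, hn⟩)
  let F₀ := (Scheme.Modules.pullback (jW ≫ W.ι)).obj F
  have hF₀ : PicF.IsInvertible F₀ := by
    let k := IsOpenImmersion.lift G.ι (jW ≫ W.ι) hsub
    have hk : k ≫ G.ι = jW ≫ W.ι := IsOpenImmersion.lift_fac _ _ _
    exact isInvertible_of_iso ((Scheme.Modules.pullback k).mapIso
        ((Scheme.Modules.restrictFunctorIsoPullback G.ι).app F) ≪≫
      (Scheme.Modules.pullbackComp k G.ι).app F ≪≫ (Scheme.Modules.pullbackCongr hk).app F)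
      (PicClLib.isInvertible_pullback k hG)
  let L := (Scheme.Modules.pushforward jW).obj F₀
  have hL : PicF.IsInvertible L := hgood.push _ hF₀
  have hrange : Set.range f ⊆ Set.range W.ι := by
    rintro _ ⟨q, rfl⟩
    rw [Scheme.Opens.range_ι]
    exact (hfgen q).mem_open W.2 hpC
  let k₁ := IsOpenImmersion.lift W.ι f hrange
  have hk₁ : k₁ ≫ W.ι = f := IsOpenImmersion.lift_fac _ _ _
  obtain ⟨tk⟩ := picTrivial_spec_local A _ (PicClLib.isInvertible_pullback k₁ hL)
  have hsub' : Set.range (P.ι ≫ k₁) ⊆ Set.range jW := by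
    rintro _ ⟨q, rfl⟩
    show (P.ι ≫ k₁) q ∈ jW.opensRange
    rw [hrW]
    show W.ι ((P.ι ≫ k₁) q) ∈ U
    have : W.ι ((P.ι ≫ k₁) q) = f q.1 := by
      show (k₁ ≫ W.ι) q.1 = f q.1
      rw [hk₁]
    rw [this]
    exact (hmemU _).2 q.2
  let k₂ := IsOpenImmersion.lift jW (P.ι ≫ k₁) hsub'
  have hk₂ : k₂ ≫ jW = P.ι ≫ k₁ := IsOpenImmersion.lift_fac _ _ _
  have hk₃ : k₂ ≫ (jW ≫ W.ι) = P.ι ≫ f := by rw [← Category.assoc, hk₂, Category.assoc, hk₁]
  obtain ⟨tP⟩ := PicClLib.nonempty_pullback_structureModule P.ι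
  exact ⟨eE.symm ≪≫ (Scheme.Modules.restrictFunctorIsoPullback P.ι).app E ≪≫
    (Scheme.Modules.pullback P.ι).mapIso eFE.symm ≪≫ (Scheme.Modules.pullbackComp P.ι f).app F ≪≫
    (Scheme.Modules.pullbackCongr hk₃.symm).app F ≪≫
    ((Scheme.Modules.pullbackComp k₂ (jW ≫ W.ι)).app F).symm ≪≫
    (Scheme.Modules.pullback k₂).mapIso ((restrictPushforward jW F₀).symm ≪≫
      (Scheme.Modules.restrictFunctorIsoPullback jW).app L) ≪≫
    (Scheme.Modules.pullbackComp k₂ jW).app L ≪≫ (Scheme.Modules.pullbackCongr hk₂).app L ≪≫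
    ((Scheme.Modules.pullbackComp P.ι k₁).app L).symm ≪≫
    (Scheme.Modules.pullback P.ι).mapIso tk ≪≫ tP⟩

end Groth.Agent.ParaFX.PairStalk
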