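import Groth.Agent.ParaFX.FlatDesc
import Groth.Agent.FreeEquiv.Basic
import Groth.Agent.H23.PullPush
import Groth.Agent.PicClLib.Basic

/-! Invertible modules trivial after a faithfully flat base change along `f` with `O_Y = f_* O_X`. -/

set_option autoImplicit false
set_option linter.style.haveILetI false
set_option backward.isDefEq.respectTransparency false
set_option backward.isDefEq.respectTransparency.types false

universe u

open CategoryTheory CategoryTheory.Limits AlgebraicGeometry TopologicalSpace Opposite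

namespace Groth.Agent.ParaFX.PushTriv

open Groth.Agent.H23.PullPush

variable {X S X' S' : Scheme.{u}}

/-- An endomorphism of the structure module which is surjective on global sections is an isomorphism. -/
theorem isIso_endo (β : Coh.structureModule X ⟶ Coh.structureModule X)
    (h : Function.Surjective (β.app ⊤)) : IsIso β := by
  obtain ⟨b', hb⟩ := h (1 : Γ(X, ⊤))
  let b : Γ(X, ⊤) := b'
  let γ : Coh.structureModule X ⟶ Coh.structureModule X := QCoh.homOfTop b'
  have hγ : ∀ a : Γ(X, ⊤), γ.app ⊤ a = (a * b : Γ(X, ⊤)) := fun a => by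
    rw [QCoh.homOfTop_app]
    show a • ((Coh.structureModule X).presheaf.map (homOfLE (le_top : (⊤ : X.Opens) ≤ ⊤)).op b') = _
    rw [show (homOfLE (le_top : (⊤ : X.Opens) ≤ ⊤)).op = 𝟙 _ from rfl, CategoryTheory.Functor.map_id]
    rfl
  have lin : ∀ (a : Γ(X, ⊤)) (c : Γ(Coh.structureModule X, ⊤)), β.app ⊤ (a • c) = a • β.app ⊤ c :=
    fun a c => Scheme.Modules.Hom.app_smul β a c
  refine ⟨γ, FreeEquiv.hom_ext_one _ _ ?_, FreeEquiv.hom_ext_one _ _ ?_⟩
  · show γ.app ⊤ (β.app ⊤ (1 : Γ(X, ⊤))) = (1 : Γ(X, ⊤))
    rw [hγ, mul_comm]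
    exact ((lin (show Γ(X, ⊤) from b) (1 : Γ(X, ⊤))).symm.trans
      ((congrArg (β.app ⊤) (mul_one (M := Γ(X, ⊤)) b)).trans hb))
  · show β.app ⊤ (γ.app ⊤ (1 : Γ(X, ⊤))) = (1 : Γ(X, ⊤))
    rw [hγ]
    exact (congrArg (β.app ⊤) (one_mul (M := Γ(X, ⊤)) b)).trans hb

variable (f : X ⟶ S) (g : S' ⟶ S) (f' : X' ⟶ S') (g' : X' ⟶ X)

theorem bc0_naturality (w : g' ≫ f = f' ≫ g) {M N : X.Modules} (φ : M ⟶ N) :
    (Scheme.Modules.pullback g).map ((Scheme.Modules.pushforward f).map φ) ≫ CohBC.bc0 f g f' g' w N =
      CohBC.bc0 f g f' g' w M ≫ (Scheme.Modules.pushforward f').map ((Scheme.Modules.pullback g').map φ) := by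
  rw [CohBC.bc0, CohBC.bc0, ← Adjunction.homEquiv_naturality_left_symm,
    ← Adjunction.homEquiv_naturality_right_symm]
  congr 1
  have h1 := (Scheme.Modules.pullbackPushforwardAdjunction g').unit.naturality φ
  have h2 := (Scheme.Modules.pushforwardComp g' f).hom.naturality ((Scheme.Modules.pullback g').map φ)
  have h3 := (Scheme.Modules.pushforwardCongr w).hom.naturality ((Scheme.Modules.pullback g').map φ)
  have h4 := (Scheme.Modules.pushforwardComp f' g).inv.naturality ((Scheme.Modules.pullback g').map φ)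
  simp only [Functor.id_map, Functor.comp_map] at h1 h2 h3 h4
  rw [CohBC.bc0Adj, CohBC.bc0Adj, ← Category.assoc, ← Functor.map_comp, h1, Functor.map_comp]
  simp only [Category.assoc]
  rw [reassoc_of% h2, reassoc_of% h3, h4]

/-- `f_* L` is invertible and `f^* f_* L ⟶ L` is an isomorphism when `g'^* L` is trivial. -/
theorem push_triv [QuasiCompact f] [QuasiSeparated f] (hf : ∀ V : S.Opens, Function.Bijective (f.app V))
    [Flat g] [Surjective g] [QuasiCompact g] (sq : IsPullback g' f' f g) (L : X.Modules)
    (hL : PicF.IsInvertible L)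
    (htriv : Nonempty ((Scheme.Modules.pullback g').obj L ≅ Coh.structureModule X')) :
    PicF.IsInvertible ((Scheme.Modules.pushforward f).obj L) ∧
      IsIso ((Scheme.Modules.pullbackPushforwardAdjunction f).counit.app L) ∧
        Nonempty ((Scheme.Modules.pullback g).obj ((Scheme.Modules.pushforward f).obj L) ≅
          Coh.structureModule S') := by
  obtain ⟨t⟩ := htriv
  haveI : Flat g' := MorphismProperty.of_isPullback sq.flip inferInstance
  haveI : Surjective g' := MorphismProperty.of_isPullback sq.flip inferInstance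
  have hbc : ∀ N : X.Modules, Coh.IsQCoh N → IsIso (CohBC.bc0 f g f' g' sq.w N) :=
    fun N hN => Groth.Agent.CohBC.isIso_bc0 f g g' f' sq hN
  have hq : Coh.IsQCoh L := QCoh.isQCoh_of_isFinLocFree (isFinLocFree_of_isInvertible hL)
  haveI := hbc _ hq
  haveI := hbc _ (QCoh.isQCoh_structureModule (X := X))
  obtain ⟨tX⟩ := PicClLib.nonempty_pullback_structureModule g'
  obtain ⟨tS⟩ := PicClLib.nonempty_pullback_structureModule g
  obtain ⟨tf⟩ := PicClLib.nonempty_pullback_structureModule f'
  let e : (Scheme.Modules.pullback g).obj ((Scheme.Modules.pushforward f).obj L) ≅ Coh.structureModule S' :=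
    asIso (CohBC.bc0 f g f' g' sq.w L) ≪≫ (Scheme.Modules.pushforward f').mapIso (t ≪≫ tX.symm) ≪≫
      (asIso (CohBC.bc0 f g f' g' sq.w (Coh.structureModule X))).symm ≪≫
      (Scheme.Modules.pullback g).mapIso (structureModuleIsoPush f hf).symm ≪≫ tS
  have hS' : PicF.IsInvertible (Coh.structureModule S') := (fun _ => ⟨⊤, trivial, ⟨Scheme.Modules.restrictUnitIso _⟩⟩)
  have hM : PicF.IsInvertible ((Scheme.Modules.pushforward f).obj L) :=
    FlatDesc.isInvertible_of_pullback g (QCoh.isQCoh_pushforward f hq)
      (isInvertible_of_iso e.symm hS')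
  refine ⟨hM, ?_, ⟨e⟩⟩
  let adj := Scheme.Modules.pullbackPushforwardAdjunction f
  let c : (Scheme.Modules.pullback f).obj ((Scheme.Modules.pushforward f).obj L) ⟶ L := adj.counit.app L
  haveI := isIso_unit_of_isFinLocFree f hf _ (isFinLocFree_of_isInvertible hM)
  haveI : IsIso ((Scheme.Modules.pushforward f).map c) := by
    haveI : IsIso (adj.unit.app ((Scheme.Modules.pushforward f).obj L) ≫
        (Scheme.Modules.pushforward f).map c) := by
      rw [adj.right_triangle_components L]; infer_instance
    exact IsIso.of_isIso_comp_left (adj.unit.app ((Scheme.Modules.pushforward f).obj L)) _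
  haveI := hbc _ (QCoh.isQCoh_of_isFinLocFree
    (isFinLocFree_of_isInvertible (PicClLib.isInvertible_pullback f hM)))
  haveI : IsIso ((Scheme.Modules.pushforward f').map ((Scheme.Modules.pullback g').map c)) := by
    haveI : IsIso (CohBC.bc0 f g f' g' sq.w ((Scheme.Modules.pullback f).obj ((Scheme.Modules.pushforward f).obj L)) ≫
        (Scheme.Modules.pushforward f').map ((Scheme.Modules.pullback g').map c)) := by
      have hc := bc0_naturality f g f' g' sq.w c
      rw [← hc]; infer_instance
    exact IsIso.of_isIso_comp_left (CohBC.bc0 f g f' g' sq.w _) _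
  let a : (Scheme.Modules.pullback g').obj
      ((Scheme.Modules.pullback f).obj ((Scheme.Modules.pushforward f).obj L)) ≅ Coh.structureModule X' :=
    (Scheme.Modules.pullbackComp g' f).app _ ≪≫ (Scheme.Modules.pullbackCongr sq.w).app _ ≪≫
      ((Scheme.Modules.pullbackComp f' g).app _).symm ≪≫ (Scheme.Modules.pullback f').mapIso e ≪≫ tf
  let β : Coh.structureModule X' ⟶ Coh.structureModule X' := a.inv ≫ (Scheme.Modules.pullback g').map c ≫ t.hom
  haveI : IsIso ((Scheme.Modules.pushforward f').map β) := by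
    simp only [β, Functor.map_comp]; infer_instance
  haveI : IsIso β := isIso_endo β (ConcreteCategory.bijective_of_isIso
    (((Scheme.Modules.pushforward f').map β).app ⊤)).2
  haveI : IsIso ((Scheme.Modules.pullback g').map c ≫ t.hom) := by
    have : a.hom ≫ β = (Scheme.Modules.pullback g').map c ≫ t.hom := a.hom_inv_id_assoc _
    rw [← this]; infer_instance
  haveI : IsIso ((Scheme.Modules.pullback g').map c) := IsIso.of_isIso_comp_right _ t.hom
  exact FlatDesc.isIso_of_pullback g' c

end Groth.Agent.ParaFX.PushTriv
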