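import Groth.Agent.ParaFX.PairIff
import Groth.Agent.ParaFX.FlatDesc
import Groth.Agent.FlatLoc6.SerreNormal
import Groth.Agent.H9PB.RegPoint
import Groth.Agent.QCoh.Pullback

/-! Extensions of invertible modules across small closed subsets descend along flat morphisms. -/

set_option autoImplicit false
set_option linter.style.haveILetI false
set_option linter.unusedSectionVars false
set_option backward.isDefEq.respectTransparency false
set_option backward.isDefEq.respectTransparency.types false

universe u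

open CategoryTheory CategoryTheory.Limits AlgebraicGeometry TopologicalSpace Opposite

namespace Groth.Agent.ParaFX.BigOpenDesc

open Groth.Agent.ParaFX.StalkPair Groth.Agent.ParaFX.StalkIso Groth.Agent.ParaFX.FlatDesc

variable {U X : Scheme.{u}}

/-- If the inverse image of a direct image on the spectrum of a local ring is invertible, the direct image is
invertible near the point. -/
theorem near_of_stalk (j : U ⟶ X) [IsOpenImmersion j] [IsLocallyNoetherian X] [IsAffine X]
    (hs : SectBij j (Coh.structureModule X)) {L : U.Modules} (hL : PicF.IsInvertible L) (y : X)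
    (hFAinv : PicF.IsInvertible
      ((Scheme.Modules.pullback (X.fromSpecStalk y)).obj ((Scheme.Modules.pushforward j).obj L))) :
    ∃ W : X.Opens, y ∈ W ∧ PicF.IsInvertible (((Scheme.Modules.pushforward j).obj L).restrict W.ι) := by
  let F := (Scheme.Modules.pushforward j).obj L
  have hLq : Coh.IsQCoh L := QCoh.isQCoh_of_isFinLocFree (H23.PullPush.isFinLocFree_of_isInvertible hL)
  haveI : QuasiCompact j := inferInstance
  have hFq : Coh.IsQCoh F := QCoh.isQCoh_pushforward j hLq
  let A := X.presheaf.stalk y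
  let f := X.fromSpecStalk y
  haveI : Flat f := GrpSchLib.flat_fromSpecStalk y
  haveI : IsPreimmersion f := inferInstance
  have hfc : f (IsLocalRing.closedPoint A) = y := Scheme.fromSpecStalk_closedPoint
  let FA := (Scheme.Modules.pullback f).obj F
  obtain ⟨ε⟩ := picTrivial_spec_local A FA hFAinv
  -- a global section generating at `y`
  have hb : Function.Bijective (f.stalkMap (IsLocalRing.closedPoint A)) := by
    refine ⟨?_, f.stalkMap_surjective _⟩
    letI := (f.stalkMap (IsLocalRing.closedPoint A)).hom.toAlgebra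
    haveI : IsLocalHom (algebraMap (X.presheaf.stalk (f (IsLocalRing.closedPoint A)))
        ((Spec A).presheaf.stalk (IsLocalRing.closedPoint A))) :=
      inferInstanceAs (IsLocalHom (f.stalkMap (IsLocalRing.closedPoint A)).hom)
    haveI : Module.Flat (X.presheaf.stalk (f (IsLocalRing.closedPoint A)))
        ((Spec A).presheaf.stalk (IsLocalRing.closedPoint A)) := Flat.stalkMap f _
    haveI : Module.FaithfullyFlat (X.presheaf.stalk (f (IsLocalRing.closedPoint A)))
        ((Spec A).presheaf.stalk (IsLocalRing.closedPoint A)) := Module.FaithfullyFlat.of_flat_of_isLocalHom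
    exact (faithfulSMul_iff_algebraMap_injective _ _).1 inferInstance
  obtain ⟨g, hg⟩ := nonempty_linearEquiv_stalk f _ hb ε
  obtain ⟨φ, hφ⟩ := exists_hom_generating (isAffineOpen_top X) hFq (f (IsLocalRing.closedPoint A)) g hg
  -- it is an isomorphism on `Spec A`
  obtain ⟨tO⟩ := PicClLib.nonempty_pullback_structureModule f
  have hall : ∀ q, Function.Bijective ((DerSch.stalkFunctor _ q).map ((Scheme.Modules.pullback f).map φ)) := by
    let V : (Spec (CommRingCat.of A)).Opens := ⟨_, isOpen_bij (isCoh_of_invertible (isInvertible_of_iso tO.symm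
      (isInvertible_structureModule _))) (isCoh_of_invertible hFAinv) ((Scheme.Modules.pullback f).map φ)⟩
    have hV : V = ⊤ := mem_closedPoint_eq_top (A := (X.presheaf.stalk y : Type u)) (O := V)
      ((bij_pullback_iff f φ _).2 hφ)
    exact fun q => (hV.symm ▸ trivial : q ∈ V)
  -- spread out
  let Z : Set X := {z | ∃ c, c ∈ j.opensRange ∧
    ¬ Function.Bijective ((DerSch.stalkFunctor X c).map φ) ∧ c ⤳ z}
  have hZ : StableUnderSpecialization Z := fun a b hab ⟨c, h1, h2, h3⟩ => ⟨c, h1, h2, h3.trans hab⟩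
  let u := j.opensRange.ι
  have hFu : PicF.IsInvertible ((Scheme.Modules.pullback u).obj F) := by
    refine isInvertible_of_iso ((Scheme.Modules.restrictFunctorIsoPullback u).app F) ?_
    let i := j.isoOpensRange
    have hi : i.inv ≫ j = u := by rw [Iso.inv_comp_eq, Scheme.Hom.isoOpensRange_hom_ι]
    exact isInvertible_of_iso ((restrictTwice F i.inv j) ≪≫ (Scheme.Modules.restrictFunctorCongr hi).app F)
      (isInvertible_restrict i.inv (isInvertible_of_iso (restrictPushforward j L).symm hL))
  obtain ⟨tU⟩ := PicClLib.nonempty_pullback_structureModule u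
  have hopen := isOpen_bij (isCoh_of_invertible (isInvertible_of_iso tU.symm (isInvertible_structureModule _)))
    (isCoh_of_invertible hFu) ((Scheme.Modules.pullback u).map φ)
  let Ok : X.Opens := ⟨_, u.isOpenEmbedding.isOpenMap _ hopen⟩
  have hOk : ∀ z, z ∈ j.opensRange → (z ∈ Ok ↔ Function.Bijective ((DerSch.stalkFunctor X z).map φ)) := by
    intro z hz
    constructor
    · rintro ⟨w, hw, rfl⟩
      exact (bij_pullback_iff u φ w).1 hw
    · exact fun h => ⟨⟨z, hz⟩, (bij_pullback_iff u φ ⟨z, hz⟩).2 h, rfl⟩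
  have hyC : y ∉ closure ((j.opensRange : Set X) \ Ok) := by
    intro hc
    obtain ⟨c, h1, h2, h3⟩ := ZClosLib.closure_diff_subset hZ
      (fun z hz => ⟨z, hz.1, fun h => hz.2 ((hOk z hz.1).2 h), specializes_rfl⟩) hc
    have hcr : c ∈ Set.range f.base := by rw [Scheme.range_fromSpecStalk]; exact h3
    obtain ⟨q, rfl⟩ := hcr
    exact h2 ((bij_pullback_iff f φ q).1 (hall q))
  let W : X.Opens := ⟨(closure ((j.opensRange : Set X) \ Ok))ᶜ, isClosed_closure.isOpen_compl⟩
  refine ⟨W, hyC, ?_⟩
  let jW := j ∣_ W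
  have hrW : jW.opensRange = W.ι ⁻¹ᵁ j.opensRange := opensRange_restrict j W
  have hs1 : SectBij jW ((Coh.structureModule X).restrict W.ι) := sectBij_restrict j W.ι jW hrW hs
  have hs2 : SectBij jW (F.restrict W.ι) := sectBij_restrict j W.ι jW hrW (sectBij_pushforward j L)
  haveI : IsIso ((Scheme.Modules.restrictFunctor jW).map ((Scheme.Modules.restrictFunctor W.ι).map φ)) := by
    refine (NatIso.isIso_map_iff (Scheme.Modules.restrictFunctorComp jW W.ι) φ).1 ?_
    refine (NatIso.isIso_map_iff (Scheme.Modules.restrictFunctorIsoPullback (jW ≫ W.ι)) φ).2 ?_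
    refine isIso_of_bij _ fun w => (bij_pullback_iff (jW ≫ W.ι) φ w).2 ?_
    have hmem : (jW ≫ W.ι) w ∈ j.opensRange := by
      have : jW w ∈ jW.opensRange := ⟨w, rfl⟩
      rw [hrW] at this
      exact this
    refine (hOk _ hmem).1 (by_contra fun h => ?_)
    exact (jW w).2 (subset_closure ⟨hmem, h⟩)
  obtain ⟨e⟩ := nonempty_iso_of_restrict jW hs1 hs2
    (asIso ((Scheme.Modules.restrictFunctor jW).map ((Scheme.Modules.restrictFunctor W.ι).map φ)))
  exact isInvertible_of_iso e (isInvertible_restrict W.ι (isInvertible_structureModule X))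

/-- The inverse image on the spectrum of a local ring is invertible as soon as the inverse image along a flat
morphism is invertible and the point is in the image. -/
theorem invertible_fromSpecStalk {X X' : Scheme.{u}} (φ : X' ⟶ X) [Flat φ] {F : X.Modules} (hF : Coh.IsQCoh F)
    (h : PicF.IsInvertible ((Scheme.Modules.pullback φ).obj F)) (x' : X') :
    PicF.IsInvertible ((Scheme.Modules.pullback (X.fromSpecStalk (φ x'))).obj F) := by
  haveI : Flat (Spec.map (φ.stalkMap x')) := (HasRingHomProperty.Spec_iff (P := @Flat)).2 (Flat.stalkMap φ x')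
  haveI : Surjective (Spec.map (φ.stalkMap x')) := by
    refine ⟨?_⟩
    algebraize [(φ.stalkMap x').hom]
    haveI : Module.Flat (X.presheaf.stalk (φ x')) (X'.presheaf.stalk x') := Flat.stalkMap φ x'
    haveI : IsLocalHom (algebraMap (X.presheaf.stalk (φ x')) (X'.presheaf.stalk x')) :=
      inferInstanceAs (IsLocalHom (φ.stalkMap x').hom)
    haveI : Module.FaithfullyFlat (X.presheaf.stalk (φ x')) (X'.presheaf.stalk x') :=
      Module.FaithfullyFlat.of_flat_of_isLocalHom
    exact PrimeSpectrum.comap_surjective_of_faithfullyFlat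
  refine isInvertible_of_pullback (Spec.map (φ.stalkMap x')) (QCoh.isQCoh_pullback _ hF) ?_
  refine isInvertible_of_iso ((Scheme.Modules.pullbackComp (X'.fromSpecStalk x') φ).app F ≪≫
    (Scheme.Modules.pullbackCongr (Scheme.SpecMap_stalkMap_fromSpecStalk φ (x := x'))).symm.app F ≪≫
    ((Scheme.Modules.pullbackComp (Spec.map (φ.stalkMap x')) (X.fromSpecStalk (φ x'))).app F).symm) ?_
  exact PicClLib.isInvertible_pullback (X'.fromSpecStalk x') h

/-- Invertible modules on an open extend if they extend after a flat base change covering the complement, which has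
depth at least two. -/
theorem exists_extension {X X' : Scheme.{u}} [IsLocallyNoetherian X] [IsLocallyNoetherian X'] (φ : X' ⟶ X) [Flat φ]
    (V : X.Opens) (hsurj : ∀ x : X, x ∉ V → x ∈ Set.range φ.base)
    (hV : ∀ x : X, x ∉ V → 2 ≤ LocCoh.depth (X.presheaf.stalk x) (X.presheaf.stalk x))
    (L : (V : Scheme.{u}).Modules) (hL : PicF.IsInvertible L) (M' : X'.Modules) (hM' : PicF.IsInvertible M')
    (e : (Scheme.Modules.pullback (φ ⁻¹ᵁ V).ι).obj M' ≅ (Scheme.Modules.pullback (φ ∣_ V)).obj L) :
    ∃ M : X.Modules, PicF.IsInvertible M ∧ Nonempty ((Scheme.Modules.pullback V.ι).obj M ≅ L) := by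
  let j := V.ι
  let F := (Scheme.Modules.pushforward j).obj L
  have hLq : Coh.IsQCoh L := QCoh.isQCoh_of_isFinLocFree (H23.PullPush.isFinLocFree_of_isInvertible hL)
  haveI : QuasiCompact j := inferInstance
  have hFq : Coh.IsQCoh F := QCoh.isQCoh_pushforward j hLq
  have hfn : FnBij j := fun O => by
    exact Hartogs.restrict_bijective j.opensRange
      (fun x hx => hV x (by rwa [Scheme.Opens.opensRange_ι] at hx)) O
  have hfn' : FnBij (φ ⁻¹ᵁ V).ι := fun O => by
    refine Hartogs.restrict_bijective (φ ⁻¹ᵁ V).ι.opensRange (fun x hx => ?_) O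
    rw [Scheme.Opens.opensRange_ι] at hx
    exact_mod_cast H9PB.le_depth_of_flat (d := 2) (φ.stalkMap x).hom (Flat.stalkMap φ x)
      (by exact_mod_cast hV (φ x) hx)
  haveI := CohBC.isIso_bc0 j φ (φ ∣_ V) (φ ⁻¹ᵁ V).ι (isPullback_morphismRestrict φ V) hLq
  have ε : (Scheme.Modules.pullback φ).obj F ≅ M' :=
    asIso (_root_.CohBC.bc0 j φ (φ ⁻¹ᵁ V).ι (φ ∣_ V) (isPullback_morphismRestrict φ V).w L) ≪≫
      (Scheme.Modules.pushforward (φ ⁻¹ᵁ V).ι).mapIso
        (e.symm ≪≫ ((Scheme.Modules.restrictFunctorIsoPullback (φ ⁻¹ᵁ V).ι).app M').symm) ≪≫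
      (isoPushforward (φ ⁻¹ᵁ V).ι
        (sectBij_of_isFinLocFree hfn' (H23.PullPush.isFinLocFree_of_isInvertible hM'))).symm
  have hpull : PicF.IsInvertible ((Scheme.Modules.pullback φ).obj F) := isInvertible_of_iso ε.symm hM'
  have hs : SectBij j (Coh.structureModule X) :=
    sectBij_of_isFinLocFree hfn (H23.PullPush.isFinLocFree_of_isInvertible (isInvertible_structureModule X))
  refine ⟨F, ?_, ⟨((Scheme.Modules.restrictFunctorIsoPullback j).app F).symm ≪≫ restrictPushforward j L⟩⟩
  suffices hall : ∀ z : X, ∃ W : X.Opens, z ∈ W ∧ PicF.IsInvertible (F.restrict W.ι) by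
    exact isInvertible_of_cover (fun i : X => (hall i).choose) (fun x => ⟨x, (hall x).choose_spec.1⟩)
      fun i => (hall i).choose_spec.2
  intro z
  by_cases hz : z ∈ V
  · exact ⟨V, hz, isInvertible_of_iso (restrictPushforward j L).symm hL⟩
  obtain ⟨x', hx'⟩ := hsurj z hz
  obtain ⟨T, hT, hzT, -⟩ := exists_isAffineOpen_mem_and_subset (x := z) (U := ⊤) trivial
  haveI : IsAffine (T : Scheme.{u}) := hT
  let jT := j ∣_ T
  have hrT : jT.opensRange = T.ι ⁻¹ᵁ j.opensRange := opensRange_restrict j T
  have hsT : SectBij jT (Coh.structureModule (T : Scheme.{u})) :=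
    sectBij_of_iso jT (Scheme.Modules.restrictUnitIso T.ι) (sectBij_restrict j T.ι jT hrT hs)
  let L' := (F.restrict T.ι).restrict jT
  have hL' : PicF.IsInvertible L' :=
    isInvertible_of_iso ((restrictTwice F (j ⁻¹ᵁ T).ι j) ≪≫
        (Scheme.Modules.restrictFunctorCongr (morphismRestrict_ι j T).symm).app F ≪≫ (restrictTwice F jT T.ι).symm)
      (isInvertible_restrict (j ⁻¹ᵁ T).ι (isInvertible_of_iso (restrictPushforward j L).symm hL))
  let eT : F.restrict T.ι ≅ (Scheme.Modules.pushforward jT).obj L' :=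
    isoPushforward jT (sectBij_restrict j T.ι jT hrT (sectBij_pushforward j L))
  have hx'T : x' ∈ φ ⁻¹ᵁ T := by show φ.base x' ∈ T; rw [hx']; exact hzT
  haveI : Flat (φ ∣_ T) := MorphismProperty.of_isPullback (isPullback_morphismRestrict φ T).flip inferInstance
  have hpullT : PicF.IsInvertible ((Scheme.Modules.pullback (φ ∣_ T)).obj ((Scheme.Modules.pushforward jT).obj L')) := by
    refine isInvertible_of_iso ((Scheme.Modules.pullback (φ ∣_ T)).mapIso
      (((Scheme.Modules.restrictFunctorIsoPullback T.ι).app F).symm ≪≫ eT)) ?_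
    refine isInvertible_of_iso ((Scheme.Modules.pullbackComp (φ ⁻¹ᵁ T).ι φ).app F ≪≫
      (Scheme.Modules.pullbackCongr (morphismRestrict_ι φ T)).symm.app F ≪≫
      ((Scheme.Modules.pullbackComp (φ ∣_ T) T.ι).app F).symm) ?_
    exact PicClLib.isInvertible_pullback (φ ⁻¹ᵁ T).ι hpull
  have hqT : Coh.IsQCoh ((Scheme.Modules.pushforward jT).obj L') :=
    QCoh.isQCoh_pushforward jT (QCoh.isQCoh_of_isFinLocFree (H23.PullPush.isFinLocFree_of_isInvertible hL'))
  have h1 := invertible_fromSpecStalk (φ ∣_ T) hqT hpullT (⟨x', hx'T⟩ : (φ ⁻¹ᵁ T : X'.Opens))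
  obtain ⟨W, hyW, hW⟩ := near_of_stalk jT hsT hL' ((φ ∣_ T) (⟨x', hx'T⟩ : (φ ⁻¹ᵁ T : X'.Opens))) h1
  refine ⟨T.ι ''ᵁ W, ⟨_, hyW, ?_⟩, ?_⟩
  · show T.ι ((φ ∣_ T) (⟨x', hx'T⟩ : (φ ⁻¹ᵁ T : X'.Opens))) = z
    rw [← Scheme.Hom.comp_apply, morphismRestrict_ι, Scheme.Hom.comp_apply]
    exact hx'
  let b := (T.ι.isoImage W).inv
  have hb : (b ≫ W.ι) ≫ T.ι = (T.ι ''ᵁ W).ι := by simp [b]
  exact isInvertible_of_iso ((Scheme.Modules.restrictFunctor b).mapIso
      ((Scheme.Modules.restrictFunctor W.ι).mapIso eT.symm) ≪≫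
    restrictTwice _ b W.ι ≪≫ restrictTwice F (b ≫ W.ι) T.ι ≪≫ (Scheme.Modules.restrictFunctorCongr hb).app F)
    (isInvertible_restrict b hW)

/-- In a two-dimensional `(S₂)` local ring the depth is at least two. -/
theorem two_le_depth_of_hasSk {R : Type u} [CommRing R] [IsLocalRing R] [IsNoetherianRing R]
    (h : LocCoh.HasSk 2 R R) (hd : ringKrullDim R = 2) : (2 : ℕ∞) ≤ LocCoh.depth R R := by
  have h1 := (FlatLoc6.hasSk_self_iff 2).1 h (IsLocalRing.maximalIdeal R)
  have hh : (IsLocalRing.maximalIdeal R).height = (2 : ℕ∞) := by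
    have := IsLocalRing.maximalIdeal_height_eq_ringKrullDim (R := R)
    rw [hd] at this
    exact WithBot.coe_injective this
  rw [hh, Nat.cast_ofNat, min_self] at h1
  let S := (IsLocalRing.maximalIdeal R).primeCompl
  let e : R ≃ₐ[R] Localization.AtPrime (IsLocalRing.maximalIdeal R) :=
    IsLocalization.atUnits R S (fun s hs => IsLocalRing.notMem_maximalIdeal.1 hs)
  rwa [Alg6.depth_eq_of_semilinear e.toRingEquiv.toRingHom e.surjective e.toRingEquiv.toAddEquiv
    (fun r z => map_mul e r z)]

end Groth.Agent.ParaFX.BigOpenDesc
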