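import Groth.Agent.ParaFX.FlatDesc
import Groth.Agent.ParaFX.Functions
import Groth.Agent.ZClosLib.CohLocus
import Groth.Agent.QCoh.Stalk
import Groth.Agent.RefX.Reflexive
import Groth.Agent.PicClLib.Basic
import Groth.Agent.QCoh.Devissage

/-! Stalk criteria used for parafactoriality at stalks. -/

set_option autoImplicit false
set_option linter.style.haveILetI false
set_option linter.unusedSectionVars false
set_option backward.isDefEq.respectTransparency false
set_option backward.isDefEq.respectTransparency.types false

universe u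

open CategoryTheory CategoryTheory.Limits AlgebraicGeometry TopologicalSpace Opposite
open scoped TensorProduct

namespace Groth.Agent.ParaFX.StalkIso

open Groth.Agent.Synt29 OmegaStalk Groth.Agent.KFlatLib

variable {X X' : Scheme.{u}}

/-- Bijectivity on a stalk is insensitive to flat pullback. -/
theorem bij_pullback_iff (f : X' ⟶ X) [Flat f] {M N : X.Modules} (φ : M ⟶ N) (x : X') :
    Function.Bijective ((DerSch.stalkFunctor X' x).map ((Scheme.Modules.pullback f).map φ)) ↔
      Function.Bijective ((DerSch.stalkFunctor X (f x)).map φ) := by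
  let A := X.presheaf.stalk (f x)
  let B := X'.presheaf.stalk x
  letI : Algebra A B := (f.stalkMap x).hom.toAlgebra
  haveI : IsLocalHom (algebraMap A B) := inferInstanceAs (IsLocalHom (f.stalkMap x).hom)
  haveI : Module.Flat A B := Flat.stalkMap f x
  haveI : Module.FaithfullyFlat A B := Module.FaithfullyFlat.of_flat_of_isLocalHom
  let ψ := (ModuleCat.extendScalars (f.stalkMap x).hom).map ((DerSch.stalkFunctor X (f x)).map φ)
  have h1 : Function.Bijective ψ ↔ Function.Bijective ((DerSch.stalkFunctor X (f x)).map φ) :=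
    Module.FaithfullyFlat.lTensor_bijective_iff_bijective A B _
  rw [← h1]
  have hn : (DerSch.stalkFunctor X' x).map ((Scheme.Modules.pullback f).map φ) ≫
      (stalkPullbackIso f x).hom.app N = (stalkPullbackIso f x).hom.app M ≫ ψ :=
    (stalkPullbackIso f x).hom.naturality φ
  have hN := ConcreteCategory.bijective_of_isIso ((stalkPullbackIso f x).hom.app N)
  have hM := ConcreteCategory.bijective_of_isIso ((stalkPullbackIso f x).hom.app M)
  have e : (((stalkPullbackIso f x).hom.app N : _ → _) ∘
      (DerSch.stalkFunctor X' x).map ((Scheme.Modules.pullback f).map φ)) =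
      (ψ : _ → _) ∘ (stalkPullbackIso f x).hom.app M :=
    funext fun z => ConcreteCategory.congr_hom hn z
  constructor
  · intro h
    have := hN.comp h
    rw [e] at this
    exact (Function.Bijective.of_comp_iff _ hM).1 this
  · intro h
    have := h.comp hM
    rw [← e] at this
    exact (Function.Bijective.of_comp_iff' hN _).1 this

theorem bij_comp_iso {M N N' : X.Modules} (φ : M ⟶ N) (e : N ≅ N') (x : X) :
    Function.Bijective ((DerSch.stalkFunctor X x).map (φ ≫ e.hom)) ↔
      Function.Bijective ((DerSch.stalkFunctor X x).map φ) := by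
  have h : ((DerSch.stalkFunctor X x).map (φ ≫ e.hom) : _ → _) =
      ((DerSch.stalkFunctor X x).map e.hom : _ → _) ∘ (DerSch.stalkFunctor X x).map φ := by
    funext z
    rw [Functor.map_comp]
    rfl
  rw [h]
  exact Function.Bijective.of_comp_iff' (ConcreteCategory.bijective_of_isIso _) _

/-- The bijective locus of a morphism of coherent modules is open. -/
theorem isOpen_bij [IsLocallyNoetherian X] {M N : X.Modules} (hM : Coh.IsCoh M) (hN : Coh.IsCoh N)
    (φ : M ⟶ N) : IsOpen {x : X | Function.Bijective ((DerSch.stalkFunctor X x).map φ)} :=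
  ZClosLib.isOpen_setOf_stalkMap_bijective hM hN φ

theorem isIso_of_bij {M N : X.Modules} (φ : M ⟶ N)
    (h : ∀ x, Function.Bijective ((DerSch.stalkFunctor X x).map φ)) : IsIso φ := by
  haveI : Mono φ := (mono_iff_stalk φ).2 fun y => (h y).1
  haveI : Epi φ := (epi_iff_stalk φ).2 fun y => (h y).2
  exact isIso_of_mono_of_epi φ

theorem bij_of_isIso {M N : X.Modules} (φ : M ⟶ N) [IsIso φ] (x : X) :
    Function.Bijective ((DerSch.stalkFunctor X x).map φ) :=
  ConcreteCategory.bijective_of_isIso _

/-- A point whose stalk map is bijective and whose stalk of the pullback is free of rank one: the stalk is free of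
rank one. -/
theorem nonempty_linearEquiv_stalk (f : X' ⟶ X) (x : X') (hb : Function.Bijective (f.stalkMap x))
    {F : X.Modules} (ε : (Scheme.Modules.pullback f).obj F ≅ Coh.structureModule X') :
    ∃ g : F.presheaf.stalk (f x), Function.Bijective fun a : X.presheaf.stalk (f x) => a • g := by
  let A := X.presheaf.stalk (f x)
  let B := X'.presheaf.stalk x
  letI : Algebra A B := (f.stalkMap x).hom.toAlgebra
  let b : B ≃ₗ[A] A := (LinearEquiv.ofBijective (Algebra.linearMap A B) hb).symm
  let l : B ⊗[A] (St F (f x)) ≃ₗ[A] St F (f x) :=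
    (TensorProduct.congr b (LinearEquiv.refl A _)).trans (TensorProduct.lid A _)
  obtain ⟨c⟩ : Nonempty ((Coh.structureModule X').presheaf.stalk x ≃ₗ[B] B) :=
    ⟨(RefX.unitStalk x).symm⟩
  let e₁ : B ⊗[A] (St F (f x)) ≃ₗ[B] B :=
    ((stalkPullbackIso f x).app F).toLinearEquiv.symm.trans
      ((((DerSch.stalkFunctor X' x).mapIso ε).toLinearEquiv).trans c)
  let g : St F (f x) := l (e₁.symm 1)
  refine ⟨g, ?_⟩
  have e2 : (fun a : A => a • g) = fun a => l (e₁.symm (algebraMap A B a)) := by
    funext a
    show a • l (e₁.symm 1) = _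
    rw [← map_smul, Algebra.algebraMap_eq_smul_one, ← IsScalarTower.algebraMap_smul B a (e₁.symm 1),
      ← map_smul, IsScalarTower.algebraMap_smul]
  show Function.Bijective fun a : A => a • g
  rw [e2]
  exact l.bijective.comp (e₁.symm.bijective.comp hb)

/-- On an affine scheme a generator of a stalk comes, up to a unit, from a morphism from the structure module. -/
theorem exists_hom_generating {F : X.Modules} (hX : IsAffineOpen (⊤ : X.Opens)) (hF : Coh.IsQCoh F) (y : X)
    (g : F.presheaf.stalk y) (hg : Function.Bijective fun a : X.presheaf.stalk y => a • g) :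
    ∃ φ : Coh.structureModule X ⟶ F, Function.Bijective ((DerSch.stalkFunctor X y).map φ) := by
  letI := QCoh.stalkModule F (show y ∈ (⊤ : X.Opens) from trivial)
  haveI := QCoh.isLocalizedModule_germLin hF hX (show y ∈ (⊤ : X.Opens) from trivial)
  obtain ⟨⟨t, s⟩, hs⟩ := IsLocalizedModule.surj (hX.primeIdealOf ⟨y, trivial⟩).asIdeal.primeCompl
    (QCoh.germLin F (show y ∈ (⊤ : X.Opens) from trivial)) g
  let u := X.presheaf.germ ⊤ y trivial (s : Γ(X, ⊤))
  have hu : IsUnit u := (X.mem_basicOpen (U := ⊤) (s : Γ(X, ⊤)) y trivial).1 ((QCoh.mem_basicOpen_iff_notMem hX trivial _).2 s.2)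
  have hts : u • g = F.presheaf.germ ⊤ y trivial t := hs
  refine ⟨QCoh.homOfTop t, ?_⟩
  let one : Γ(Coh.structureModule X, ⊤) := (1 : Γ(X, ⊤))
  have h1 : (DerSch.stalkFunctor X y).map (QCoh.homOfTop t) (RefX.unitStalk y 1) =
      F.presheaf.germ ⊤ y trivial t := by
    have hone : RefX.unitStalk y 1 = (Coh.structureModule X).presheaf.germ ⊤ y trivial one  :=
      one_smul (X.presheaf.stalk y) _
    rw [hone]
    refine (ZClosLib.stalkMap_germ (QCoh.homOfTop t) (U := ⊤) (x := y) trivial one).trans ?_
    rw [QCoh.homOfTop_app t (W := ⊤) (1 : Γ(X, ⊤)), one_smul]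
    congr 1
    exact ConcreteCategory.congr_hom (F.presheaf.map_id (op ⊤)) t
  have hl : ∀ a : X.presheaf.stalk y,
      (DerSch.stalkFunctor X y).map (QCoh.homOfTop t) (RefX.unitStalk y a) = (a * u) • g := by
    intro a
    rw [show RefX.unitStalk y a = a • RefX.unitStalk y 1 by rw [← map_smul, smul_eq_mul, mul_one]]
    refine (((DerSch.stalkFunctor X y).map (QCoh.homOfTop t)).hom.map_smul a _).trans ?_
    exact (congrArg (a • ·) (h1.trans hts.symm)).trans (mul_smul a u g).symm
  refine (Function.Bijective.of_comp_iff _ (RefX.unitStalk y).bijective).1 ?_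
  exact (congrArg Function.Bijective (funext hl)).mpr (hg.comp hu.unit.mulRight_bijective)

end Groth.Agent.ParaFX.StalkIso
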