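import Groth.Agent.ParaFX.StalkIso
import Groth.Agent.ParaFX.Ufd
import Groth.Agent.Hartogs.Basic
import Groth.Agent.ZClosLib.Noeth
import Groth.Agent.GrpSchLib.FieldSmooth

/-! Parafactoriality at the stalks gives parafactorial pairs. -/

set_option autoImplicit false
set_option linter.style.haveILetI false
set_option linter.unusedSectionVars false
set_option backward.isDefEq.respectTransparency false
set_option backward.isDefEq.respectTransparency.types false

universe u

open CategoryTheory CategoryTheory.Limits AlgebraicGeometry TopologicalSpace Opposite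

namespace Groth.Agent.ParaFX.StalkPair

open Groth.Agent.ParaFX.StalkIso

/-- A parafactorial Noetherian local ring has depth at least two. -/
theorem two_le_depth (A : Type u) [CommRing A] [IsNoetherianRing A] [IsLocalRing A]
    (h : ParaF.IsParafactorialLocalRing A) : (2 : ℕ∞) ≤ LocCoh.depth A A := by
  have hb := ((isParafactorialLocalRing_iff A).1 h).1
  let Z : Set (PrimeSpectrum A) := {IsLocalRing.closedPoint A}
  have hZ : StableUnderSpecialization Z := (IsLocalRing.isClosed_singleton_closedPoint A).stableUnderSpecialization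
  have hc : EGA4.IsClosedAlong Z A := by
    intro J hJ
    by_cases hm : IsLocalRing.closedPoint A ∈ PrimeSpectrum.zeroLocus (J : Set A)
    · have e : EGA4.openCompl A J = FEt.puncturedSpec A := by
        ext q
        exact ⟨fun hq hq' => hq ((show q = IsLocalRing.closedPoint A from hq') ▸ hm),
          fun hq hq' => hq (hJ hq')⟩
      have key : ∀ O : (Spec (CommRingCat.of A)).Opens, O = FEt.puncturedSpec A →
          Function.Bijective ((Spec (CommRingCat.of A)).presheaf.map (homOfLE (le_top : O ≤ ⊤)).op) := by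
        rintro _ rfl
        exact hb
      exact key _ e
    · have e : EGA4.openCompl A J = (⊤ : (Spec (CommRingCat.of A)).Opens) := mem_closedPoint_eq_top hm
      have key : ∀ O : (Spec (CommRingCat.of A)).Opens, O = ⊤ →
          Function.Bijective ((Spec (CommRingCat.of A)).presheaf.map (homOfLE (le_top : O ≤ ⊤)).op) := by
        rintro _ rfl
        exact ConcreteCategory.bijective_of_isIso ((Spec (CommRingCat.of A)).presheaf.map (𝟙 _))
      exact key _ e
  have hd := Alg6.two_le_depth_of_isClosedAlong hZ hc (IsLocalRing.closedPoint A) rfl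
  have hsub : ((IsLocalRing.closedPoint A).asIdeal.primeCompl : Submonoid A) ≤ IsUnit.submonoid A := fun x hx =>
    IsLocalRing.notMem_maximalIdeal.1 hx
  let σ : A ≃ₐ[A] Localization.AtPrime (IsLocalRing.closedPoint A).asIdeal :=
    IsLocalization.atUnits A _ hsub
  rw [Alg6.depth_eq_of_semilinear σ.toRingEquiv.toRingHom σ.surjective σ.toRingEquiv.toAddEquiv
    (fun r z => map_mul σ r z)]
  exact hd

variable {U X : Scheme.{u}} (j : U ⟶ X) [IsOpenImmersion j] [IsLocallyNoetherian X]

theorem fnBij (hpf : ∀ x : X, x ∉ j.opensRange → ParaF.IsParafactorialLocalRing (X.presheaf.stalk x)) :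
    FnBij j := fun O => by
  exact Hartogs.restrict_bijective j.opensRange (fun x hx => two_le_depth _ (hpf x hx)) O

theorem isInvertible_structureModule (X : Scheme.{u}) : PicF.IsInvertible (Coh.structureModule X) :=
  fun _ => ⟨⊤, trivial, ⟨Scheme.Modules.restrictUnitIso _⟩⟩

theorem isCoh_of_invertible {X : Scheme.{u}} [IsLocallyNoetherian X] {M : X.Modules}
    (h : PicF.IsInvertible M) : Coh.IsCoh M :=
  QCoh.isCoh_iff_isFP.2 (QCoh.isFP_of_isFinLocFree (H23.PullPush.isFinLocFree_of_isInvertible h))

/-- Sections of `M` over an open and over the punctured spectrum agree as soon as they do over a smaller open. -/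
theorem sectBij_of_le {U' U'' V : Scheme.{u}} (j' : U' ⟶ V) [IsOpenImmersion j'] (p : U'' ⟶ V) [IsOpenImmersion p]
    (hle : j'.opensRange ≤ p.opensRange) {M : V.Modules} (h : SectBij j' M) : SectBij p M := by
  intro O O' hO hO'
  let O'' := O ⊓ j'.opensRange
  have h2 : O'' ≤ O' := by rw [hO']; exact inf_le_inf_left _ hle
  haveI i1 := h O O'' inf_le_left rfl
  haveI i2 := h O' O'' h2 (by rw [hO', inf_assoc, inf_eq_right.2 hle])
  haveI : IsIso (M.presheaf.map (homOfLE hO).op ≫ M.presheaf.map (homOfLE h2).op) := by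
    rw [← map_comp_le]; exact i1
  exact IsIso.of_isIso_comp_right (M.presheaf.map (homOfLE hO).op) (M.presheaf.map (homOfLE h2).op)

/-- The key step: invertibility of the direct image spreads to a point all of whose proper generisations are good. -/
theorem near [IsAffine X] (hpf : ∀ x : X, x ∉ j.opensRange → ParaF.IsParafactorialLocalRing (X.presheaf.stalk x))
    {L : U.Modules} (hL : PicF.IsInvertible L) (y : X) (hy : y ∉ j.opensRange) (G : X.Opens)
    (hG : PicF.IsInvertible ((Scheme.Modules.pullback G.ι).obj ((Scheme.Modules.pushforward j).obj L)))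
    (hgen : ∀ z : X, z ⤳ y → z ≠ y → z ∈ G) :
    ∃ W : X.Opens, y ∈ W ∧ PicF.IsInvertible (((Scheme.Modules.pushforward j).obj L).restrict W.ι) := by
  let F := (Scheme.Modules.pushforward j).obj L
  have hLq : Coh.IsQCoh L := QCoh.isQCoh_of_isFinLocFree (H23.PullPush.isFinLocFree_of_isInvertible hL)
  haveI : QuasiCompact j := inferInstance
  have hFq : Coh.IsQCoh F := QCoh.isQCoh_pushforward j hLq
  let A := X.presheaf.stalk y
  let f := X.fromSpecStalk y
  haveI : Flat f := GrpSchLib.flat_fromSpecStalk y
  haveI : IsPreimmersion f := inferInstance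
  have hfc : f (IsLocalRing.closedPoint A) = y := Scheme.fromSpecStalk_closedPoint
  have hfinj : ∀ q, f q = y → q = IsLocalRing.closedPoint A := fun q hq =>
    f.isEmbedding.injective (hq.trans hfc.symm)
  have hfgen : ∀ q, f q ⤳ y := fun q => by
    have := Set.mem_range_self (f := f.base) q
    rwa [Scheme.range_fromSpecStalk] at this
  let j' := pullback.snd j f
  have sq := IsPullback.of_hasPullback j f
  haveI := CohBC.isIso_bc0 j f (pullback.fst j f) j' sq hLq
  let bc := asIso (_root_.CohBC.bc0 j f j' (pullback.fst j f) sq.w L)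
  let P := FEt.puncturedSpec A
  have hr : j'.opensRange ≤ P.ι.opensRange := by
    rw [Scheme.Hom.opensRange_pullbackSnd, Scheme.Opens.opensRange_ι]
    intro q hq hq'
    exact hy (hfc ▸ (show q = IsLocalRing.closedPoint A from hq') ▸ hq)
  let FA := (Scheme.Modules.pullback f).obj F
  have hSA : SectBij P.ι FA :=
    sectBij_of_le j' P.ι hr (sectBij_of_iso j' bc.symm (sectBij_pushforward j' _))
  -- invertible on the punctured spectrum
  have hPinv : PicF.IsInvertible (FA.restrict P.ι) := by
    have hsub : Set.range (P.ι ≫ f) ⊆ Set.range G.ι := by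
      rintro _ ⟨q, rfl⟩
      rw [Scheme.Opens.range_ι]
      exact hgen _ (hfgen _) fun e => q.2 (hfinj _ e)
    let k := IsOpenImmersion.lift G.ι (P.ι ≫ f) hsub
    have hk : k ≫ G.ι = P.ι ≫ f := IsOpenImmersion.lift_fac _ _ _
    exact isInvertible_of_iso ((Scheme.Modules.pullbackComp k G.ι).app F ≪≫
      (Scheme.Modules.pullbackCongr hk).app F ≪≫ ((Scheme.Modules.pullbackComp P.ι f).app F).symm ≪≫
      ((Scheme.Modules.restrictFunctorIsoPullback P.ι).app FA).symm) (PicClLib.isInvertible_pullback k hG)
  have hgood : Good P.ι := good_of_openImmersion _ (hpf y hy) (𝟙 _) P.ι (by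
    rw [Scheme.Opens.opensRange_ι]; rfl)
  have hFAinv : PicF.IsInvertible FA := isInvertible_of_iso (isoPushforward P.ι hSA).symm (hgood.push _ hPinv)
  obtain ⟨ε⟩ := picTrivial_spec_local A FA hFAinv
  -- a global section generating at `y`
  have hb : Function.Bijective (f.stalkMap (IsLocalRing.closedPoint A)) := by
    refine ⟨?_, f.stalkMap_surjective _⟩
    letI := (f.stalkMap (IsLocalRing.closedPoint A)).hom.toAlgebra
    haveI : IsLocalHom (algebraMap (X.presheaf.stalk (f (IsLocalRing.closedPoint A)))
        ((Spec A).presheaf.stalk (IsLocalRing.closedPoint A))) :=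
      inferInstanceAs (IsLocalHom (f.stalkMap (IsLocalRing.closedPoint A)).hom)
    haveI : Module.Flat (X.presheaf.stalk (f (IsLocalRing.closedPoint A)))
        ((Spec A).presheaf.stalk (IsLocalRing.closedPoint A)) := Flat.stalkMap f _
    haveI : Module.FaithfullyFlat (X.presheaf.stalk (f (IsLocalRing.closedPoint A)))
        ((Spec A).presheaf.stalk (IsLocalRing.closedPoint A)) := Module.FaithfullyFlat.of_flat_of_isLocalHom
    exact (faithfulSMul_iff_algebraMap_injective _ _).1 inferInstance
  obtain ⟨g, hg⟩ := nonempty_linearEquiv_stalk f _ hb ε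
  obtain ⟨φ, hφ⟩ := exists_hom_generating (isAffineOpen_top X) hFq (f (IsLocalRing.closedPoint A)) g hg
  -- it is an isomorphism on `Spec A`
  obtain ⟨tO⟩ := PicClLib.nonempty_pullback_structureModule f
  have hall : ∀ q, Function.Bijective ((DerSch.stalkFunctor _ q).map ((Scheme.Modules.pullback f).map φ)) := by
    let V : (Spec (CommRingCat.of A)).Opens := ⟨_, isOpen_bij (isCoh_of_invertible (isInvertible_of_iso tO.symm
      (isInvertible_structureModule _))) (isCoh_of_invertible hFAinv) ((Scheme.Modules.pullback f).map φ)⟩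
    have hV : V = ⊤ := mem_closedPoint_eq_top (A := (X.presheaf.stalk y : Type u)) (O := V)
      ((bij_pullback_iff f φ _).2 hφ)
    exact fun q => (hV.symm ▸ trivial : q ∈ V)
  -- spread out
  let Z : Set X := {z | ∃ c, c ∈ j.opensRange ∧
    ¬ Function.Bijective ((DerSch.stalkFunctor X c).map φ) ∧ c ⤳ z}
  have hZ : StableUnderSpecialization Z := fun a b hab ⟨c, h1, h2, h3⟩ => ⟨c, h1, h2, h3.trans hab⟩
  let u := j.opensRange.ι
  have hFu : PicF.IsInvertible ((Scheme.Modules.pullback u).obj F) := by
    refine isInvertible_of_iso ((Scheme.Modules.restrictFunctorIsoPullback u).app F) ?_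
    let i := j.isoOpensRange
    have hi : i.inv ≫ j = u := by rw [Iso.inv_comp_eq, Scheme.Hom.isoOpensRange_hom_ι]
    exact isInvertible_of_iso ((restrictTwice F i.inv j) ≪≫ (Scheme.Modules.restrictFunctorCongr hi).app F)
      (isInvertible_restrict i.inv (isInvertible_of_iso (restrictPushforward j L).symm hL))
  obtain ⟨tU⟩ := PicClLib.nonempty_pullback_structureModule u
  have hopen := isOpen_bij (isCoh_of_invertible (isInvertible_of_iso tU.symm (isInvertible_structureModule _)))
    (isCoh_of_invertible hFu) ((Scheme.Modules.pullback u).map φ)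
  let Ok : X.Opens := ⟨_, u.isOpenEmbedding.isOpenMap _ hopen⟩
  have hOk : ∀ z, z ∈ j.opensRange → (z ∈ Ok ↔ Function.Bijective ((DerSch.stalkFunctor X z).map φ)) := by
    intro z hz
    constructor
    · rintro ⟨w, hw, rfl⟩
      exact (bij_pullback_iff u φ w).1 hw
    · exact fun h => ⟨⟨z, hz⟩, (bij_pullback_iff u φ ⟨z, hz⟩).2 h, rfl⟩
  have hyC : y ∉ closure ((j.opensRange : Set X) \ Ok) := by
    intro hc
    obtain ⟨c, h1, h2, h3⟩ := ZClosLib.closure_diff_subset hZ
      (fun z hz => ⟨z, hz.1, fun h => hz.2 ((hOk z hz.1).2 h), specializes_rfl⟩) hc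
    have hcr : c ∈ Set.range f.base := by rw [Scheme.range_fromSpecStalk]; exact h3
    obtain ⟨q, rfl⟩ := hcr
    exact h2 ((bij_pullback_iff f φ q).1 (hall q))
  let W : X.Opens := ⟨(closure ((j.opensRange : Set X) \ Ok))ᶜ, isClosed_closure.isOpen_compl⟩
  refine ⟨W, hyC, ?_⟩
  let jW := j ∣_ W
  have hrW : jW.opensRange = W.ι ⁻¹ᵁ j.opensRange := opensRange_restrict j W
  have hs1 : SectBij jW ((Coh.structureModule X).restrict W.ι) := sectBij_restrict j W.ι jW hrW
    (sectBij_of_isFinLocFree (fnBij j hpf)
      (H23.PullPush.isFinLocFree_of_isInvertible (isInvertible_structureModule X)))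
  have hs2 : SectBij jW (F.restrict W.ι) := sectBij_restrict j W.ι jW hrW (sectBij_pushforward j L)
  haveI : IsIso ((Scheme.Modules.restrictFunctor jW).map ((Scheme.Modules.restrictFunctor W.ι).map φ)) := by
    refine (NatIso.isIso_map_iff (Scheme.Modules.restrictFunctorComp jW W.ι) φ).1 ?_
    refine (NatIso.isIso_map_iff (Scheme.Modules.restrictFunctorIsoPullback (jW ≫ W.ι)) φ).2 ?_
    refine isIso_of_bij _ fun w => (bij_pullback_iff (jW ≫ W.ι) φ w).2 ?_
    have hmem : (jW ≫ W.ι) w ∈ j.opensRange := by
      have : jW w ∈ jW.opensRange := ⟨w, rfl⟩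
      rw [hrW] at this
      exact this
    refine (hOk _ hmem).1 (by_contra fun h => ?_)
    exact (jW w).2 (subset_closure ⟨hmem, h⟩)
  obtain ⟨e⟩ := nonempty_iso_of_restrict jW hs1 hs2
    (asIso ((Scheme.Modules.restrictFunctor jW).map ((Scheme.Modules.restrictFunctor W.ι).map φ)))
  exact isInvertible_of_iso e (isInvertible_restrict W.ι (isInvertible_structureModule X))

end Groth.Agent.ParaFX.StalkPair
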